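import Mathlib

/-!
Two by two matrices over a field: conjugacy of non-scalar matrices, elements without eigenvalue, and
factorisations into two factors of prescribed trace and determinant (helper65).
-/

set_option autoImplicit false

namespace Cfsg.Agent.Lib.ThompsonG2

open Matrix

variable {F : Type*} [Field F]

/-- Two by two matrices. -/
abbrev M2 (F : Type*) [Field F] := Matrix (Fin 2) (Fin 2) F

/-- The companion matrix of `X² - tX + n`. -/
def comp (t n : F) : M2 F := !![0, -n; 1, t]

theorem comp_trace (t n : F) : (comp t n).trace = t := by simp [comp, trace_fin_two]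

theorem comp_det (t n : F) : (comp t n).det = n := by simp [comp, det_fin_two]

/-- A matrix which is not a scalar. -/
def NonScalar (M : M2 F) : Prop := M 0 1 ≠ 0 ∨ M 1 0 ≠ 0 ∨ M 0 0 ≠ M 1 1

theorem eq_scalar_of_not {M : M2 F} (h : ¬ NonScalar M) : M = M 0 0 • (1 : M2 F) := by
  simp only [NonScalar, not_or, not_not] at h
  ext i j
  fin_cases i <;> fin_cases j <;> simp [h.1, h.2.1, h.2.2]

theorem exists_comp_conj {M : M2 F} (h : NonScalar M) :
    ∃ k : GL (Fin 2) F, M * (k : M2 F) = (k : M2 F) * comp M.trace M.det := by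
  obtain ⟨a, b, hab⟩ : ∃ a b : F,
      (!![a, M 0 0 * a + M 0 1 * b; b, M 1 0 * a + M 1 1 * b] : M2 F).det ≠ 0 := by
    by_cases h10 : M 1 0 = 0
    · by_cases h01 : M 0 1 = 0
      · refine ⟨1, 1, ?_⟩
        have hd : M 0 0 ≠ M 1 1 := (h.resolve_left (not_not.2 h01)).resolve_left (not_not.2 h10)
        rw [det_fin_two_of, h10, h01]
        simpa [sub_ne_zero] using Ne.symm hd
      · exact ⟨0, 1, by rw [det_fin_two_of]; simpa using h01⟩
    · exact ⟨1, 0, by rw [det_fin_two_of]; simpa using h10⟩
  refine ⟨GeneralLinearGroup.mkOfDetNeZero _ hab, ?_⟩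
  show M * !![a, M 0 0 * a + M 0 1 * b; b, M 1 0 * a + M 1 1 * b] =
    !![a, M 0 0 * a + M 0 1 * b; b, M 1 0 * a + M 1 1 * b] * comp M.trace M.det
  ext i j
  fin_cases i <;> fin_cases j <;>
    simp [comp, Matrix.mul_apply, Fin.sum_univ_two, trace_fin_two, det_fin_two] <;> ring

theorem nonScalar_of_noRoot {M : M2 F} (h : ∀ r : F, r * r - M.trace * r + M.det ≠ 0) : NonScalar M := by
  by_contra hn
  simp only [NonScalar, not_or, not_not] at hn
  refine h (M 0 0) ?_
  rw [trace_fin_two, det_fin_two, hn.1, hn.2.2]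
  ring

theorem trace_conj (k : GL (Fin 2) F) (M : M2 F) :
    ((k : M2 F) * M * ((k⁻¹ : GL (Fin 2) F) : M2 F)).trace = M.trace := by
  rw [trace_mul_cycle, Units.inv_mul, one_mul]

theorem det_conj (k : GL (Fin 2) F) (M : M2 F) :
    ((k : M2 F) * M * ((k⁻¹ : GL (Fin 2) F) : M2 F)).det = M.det := Matrix.det_units_conj k M

theorem conj_of_invariants {A B : GL (Fin 2) F} (hA : NonScalar (A : M2 F)) (hB : NonScalar (B : M2 F))
    (ht : (A : M2 F).trace = (B : M2 F).trace) (hd : (A : M2 F).det = (B : M2 F).det) :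
    ∃ k : GL (Fin 2) F, A = k * B * k⁻¹ := by
  obtain ⟨k, hk⟩ := exists_comp_conj hA
  obtain ⟨l, hl⟩ := exists_comp_conj hB
  rw [← ht, ← hd] at hl
  refine ⟨k * l⁻¹, ?_⟩
  have e : l⁻¹ * B * l = k⁻¹ * A * k := by
    refine Units.ext ?_
    simp only [Units.val_mul, mul_assoc, hk, hl]
    simp [← mul_assoc]
  calc A = k * (k⁻¹ * A * k) * k⁻¹ := by group
    _ = k * (l⁻¹ * B * l) * k⁻¹ := by rw [e]
    _ = _ := by group

/-- A non-scalar matrix has conjugates by `SL₂` with any upper left entry. -/
theorem exists_conj_entry {M : M2 F} (h : NonScalar M) (β : F) :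
    ∃ k : SpecialLinearGroup (Fin 2) F,
      ((k : M2 F) * M * ((k⁻¹ : SpecialLinearGroup (Fin 2) F) : M2 F)) 0 0 = β := by
  have key : ∀ x y : F, ∃ k : SpecialLinearGroup (Fin 2) F,
      ((k : M2 F) * M * ((k⁻¹ : SpecialLinearGroup (Fin 2) F) : M2 F)) 0 0 =
        (M 0 0 + y * M 1 0) - x * (M 0 1 + y * M 1 1 - y * (M 0 0 + y * M 1 0)) := by
    intro x y
    let k1 : SpecialLinearGroup (Fin 2) F := ⟨!![1, 0; x, 1], by simp [det_fin_two]⟩
    let k2 : SpecialLinearGroup (Fin 2) F := ⟨!![1, y; 0, 1], by simp [det_fin_two]⟩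
    refine ⟨k1 * k2, ?_⟩
    show ((k1.1 * k2.1) * M * (k1.1 * k2.1).adjugate) 0 0 = _
    simp [k1, k2, adjugate_fin_two, Matrix.mul_apply, Matrix.vecMul, dotProduct, Fin.sum_univ_two]
    ring
  by_cases h10 : M 1 0 = 0
  · by_cases h01 : M 0 1 = 0
    · have hd : M 1 1 - M 0 0 ≠ 0 :=
        sub_ne_zero.2 (Ne.symm ((h.resolve_left (not_not.2 h01)).resolve_left (not_not.2 h10)))
      obtain ⟨k, hk⟩ := key ((M 0 0 - β) / (M 1 1 - M 0 0)) 1
      refine ⟨k, ?_⟩
      rw [hk, h10, h01]
      simp only [mul_zero, add_zero, zero_add, one_mul]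
      field_simp
      ring
    · obtain ⟨k, hk⟩ := key ((M 0 0 - β) / M 0 1) 0
      refine ⟨k, ?_⟩
      rw [hk]
      field_simp
      ring
  · obtain ⟨k, hk⟩ := key 0 ((β - M 0 0) / M 1 0)
    refine ⟨k, ?_⟩
    rw [hk]
    field_simp
    ring

/-- The split into two factors of prescribed invariants, from a solution of a conic equation. -/
theorem exists_factor {M : M2 F} (hM : NonScalar M) {t n w : F}
    (h : ∃ p s : F, p * p + M.trace * p * s + M.det * (s * s) - t * p - w * s + n = 0) :
    ∃ A : M2 F, A.trace = t ∧ A.det = n ∧ (A.adjugate * M).trace = w := by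
  obtain ⟨k, hk⟩ := exists_comp_conj hM
  obtain ⟨p, s, hps⟩ := h
  set A0 : M2 F := !![p, M.det * s + p * M.trace - w; s, t - p] with hA0
  refine ⟨(k : M2 F) * A0 * ((k⁻¹ : GL (Fin 2) F) : M2 F), ?_, ?_, ?_⟩
  · rw [trace_conj, hA0, trace_fin_two_of]; ring
  · rw [det_conj, hA0, det_fin_two_of]; linear_combination -hps
  · have eM : M = (k : M2 F) * comp M.trace M.det * ((k⁻¹ : GL (Fin 2) F) : M2 F) := by
      rw [← hk, mul_assoc, Units.mul_inv, mul_one]
    have eA : ((k : M2 F) * A0 * ((k⁻¹ : GL (Fin 2) F) : M2 F)).adjugate =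
        (k : M2 F) * A0.adjugate * ((k⁻¹ : GL (Fin 2) F) : M2 F) := by
      rw [adjugate_mul_distrib, adjugate_mul_distrib]
      have hk1 : (k : M2 F).adjugate = (k : M2 F).det • ((k⁻¹ : GL (Fin 2) F) : M2 F) := by
        calc (k : M2 F).adjugate = (k : M2 F).adjugate * ((k : M2 F) * ((k⁻¹ : GL (Fin 2) F) : M2 F)) := by
              rw [Units.mul_inv, mul_one]
          _ = _ := by rw [← mul_assoc, adjugate_mul, Matrix.smul_mul, one_mul]
      have hk2 : ((k⁻¹ : GL (Fin 2) F) : M2 F).adjugate = ((k⁻¹ : GL (Fin 2) F) : M2 F).det • (k : M2 F) := by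
        calc ((k⁻¹ : GL (Fin 2) F) : M2 F).adjugate =
              ((k⁻¹ : GL (Fin 2) F) : M2 F).adjugate * (((k⁻¹ : GL (Fin 2) F) : M2 F) * (k : M2 F)) := by
              rw [Units.inv_mul, mul_one]
          _ = _ := by rw [← mul_assoc, adjugate_mul, Matrix.smul_mul, one_mul]
      rw [hk1, hk2, Matrix.mul_smul, Matrix.smul_mul, Matrix.mul_smul, smul_smul, ← det_mul, Units.inv_mul,
        det_one, one_smul, mul_assoc]
    rw [eA]
    conv_lhs => rw [eM]
    have : (k : M2 F) * A0.adjugate * ((k⁻¹ : GL (Fin 2) F) : M2 F) *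
        ((k : M2 F) * comp M.trace M.det * ((k⁻¹ : GL (Fin 2) F) : M2 F)) =
        (k : M2 F) * (A0.adjugate * comp M.trace M.det) * ((k⁻¹ : GL (Fin 2) F) : M2 F) := by
      simp only [mul_assoc, Units.inv_mul_cancel_left]
    rw [this, trace_conj, hA0, adjugate_fin_two_of]
    simp [comp, trace_fin_two, Matrix.mul_apply, Fin.sum_univ_two]
    ring

open Polynomial in
/-- The conic equation in odd characteristic. -/
theorem exists_conic_odd [Fintype F] (hodd : Fintype.card F % 2 = 1) (h2 : (2 : F) ≠ 0) {m d t n w : F}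
    (h : ¬ (m * m = 4 * d ∧ m * t = 2 * w)) :
    ∃ p s : F, p * p + m * p * s + d * (s * s) - t * p - w * s + n = 0 := by
  set e : F := d - m * m / 4 with he
  set w' : F := w - t * m / 2 with hw
  have h4 : (4 : F) ≠ 0 := by
    have : (4 : F) = 2 * 2 := by norm_num
    rw [this]; exact mul_ne_zero h2 h2
  suffices ∃ P s : F, P * P - t * P + e * (s * s) - w' * s + n = 0 by
    obtain ⟨P, s, hP⟩ := this
    refine ⟨P - m * s / 2, s, ?_⟩
    rw [he, hw] at hP
    field_simp at hP ⊢
    grind
  by_cases he0 : e = 0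
  · have hw0 : w' ≠ 0 := by
      intro e'
      rw [hw] at e'
      rw [he] at he0
      field_simp at e' he0
      exact h ⟨by linear_combination -he0, by linear_combination -e'⟩
    refine ⟨0, n / w', ?_⟩
    rw [he0]
    field_simp
    ring
  · obtain ⟨a, b, hab⟩ := FiniteField.exists_root_sum_quadratic
      (f := C (1 : F) * X ^ 2 + C (-t) * X + C n) (g := C e * X ^ 2 + C (-w') * X + C 0)
      (degree_quadratic one_ne_zero) (degree_quadratic he0) hodd
    refine ⟨a, b, ?_⟩
    simp only [eval_add, eval_mul, eval_C, eval_pow, eval_X] at hab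
    linear_combination hab

/-- The conic equation in characteristic two. -/
theorem exists_conic_two [Finite F] [CharP F 2] {m d t n w : F} (hm : m ≠ 0) :
    ∃ p s : F, p * p + m * p * s + d * (s * s) - t * p - w * s + n = 0 := by
  obtain ⟨r, hr⟩ := FiniteField.isSquare_of_char_two (ringChar.eq F 2) (-(d * (t / m * (t / m)) - w * (t / m) + n))
  refine ⟨r, t / m, ?_⟩
  have : m * r * (t / m) = t * r := by field_simp
  linear_combination -hr + this

/-- An element commuting with a companion matrix without eigenvalue. -/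
theorem eq_zero_or_det_ne_zero {A : M2 F} {t n : F} (hirr : ∀ r : F, r * r - t * r + n ≠ 0)
    (hc : A * comp t n = comp t n * A) (hA : A.det = 0) : A = 0 := by
  have e00 := congrFun (congrFun hc 0) 0
  have e10 := congrFun (congrFun hc 1) 0
  simp [comp, Matrix.mul_apply, Fin.sum_univ_two] at e00 e10
  rw [det_fin_two, e10, e00] at hA
  have h10 : A 1 0 = 0 := by
    by_contra hne
    refine hirr (-(A 0 0) / A 1 0) ?_
    field_simp
    linear_combination hA
  rw [h10] at hA e00 e10
  have h00 : A 0 0 = 0 := by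
    have h0 : A 0 0 * A 0 0 = 0 := by linear_combination hA
    exact mul_self_eq_zero.1 h0
  rw [h00] at e10
  ext i j
  fin_cases i <;> fin_cases j
  · simpa using h00
  · simpa using e00
  · simpa using h10
  · simpa using e10

section Finite

variable [Fintype F]

/-- The Frobenius power of a companion matrix without eigenvalue. -/
theorem comp_pow_card {t n : F} (hirr : ∀ r : F, r * r - t * r + n ≠ 0) :
    comp t n ^ (Fintype.card F + 1) = n • (1 : M2 F) := by
  obtain ⟨p, hp⟩ := CharP.exists F
  haveI : Fact p.Prime := ⟨CharP.char_is_prime F p⟩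
  haveI : CharP (M2 F) p := inferInstance
  obtain ⟨k, _, hk⟩ := FiniteField.card F p
  set P := comp t n with hP
  have hCH : P * P = t • P - n • (1 : M2 F) := by
    ext i j
    fin_cases i <;> fin_cases j <;> simp [hP, comp, Matrix.mul_apply, Fin.sum_univ_two] <;> ring
  set q := Fintype.card F with hq
  set Q := P ^ q with hQ
  have hadd : ∀ x y : M2 F, Commute x y → (x + y) ^ q = x ^ q + y ^ q := fun x y hxy => by
    rw [hk]; exact add_pow_char_pow_of_commute (p := p) (k : ℕ) hxy
  have hsmul : ∀ (a : F) (x : M2 F), (a • x) ^ q = a • x ^ q := fun a x => by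
    rw [smul_pow, hq, FiniteField.pow_card]
  have hQQ : Q * Q = t • Q - n • (1 : M2 F) := by
    have e1 : (P * P) ^ q = Q * Q := Commute.mul_pow (Commute.refl P) q
    rw [← e1, hCH, sub_eq_add_neg, hadd _ _ (by
      rw [← neg_smul]; exact ((Commute.one_right P).smul_left t).smul_right (-n)), hsmul, ← neg_smul, hsmul,
      one_pow, neg_smul, ← sub_eq_add_neg, hQ]
  have hcomm : Commute Q P := Commute.pow_self P q
  have hprod : (Q - P) * (Q + P - t • (1 : M2 F)) = 0 := by
    have : (Q - P) * (Q + P - t • (1 : M2 F)) = Q * Q - t • Q - (P * P - t • P) := by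
      simp only [mul_sub, sub_mul, mul_add, Matrix.mul_smul, mul_one, hcomm.eq]
      abel
    rw [this, hQQ, hCH]; abel
  have hne : Q - P ≠ 0 := by
    intro h0
    have hPq : P ^ q = P := sub_eq_zero.1 h0
    have hq1 : 1 < q := Fintype.one_lt_card
    set g : Polynomial F := Polynomial.X ^ q - Polynomial.X with hg
    have hroots : g.roots = Finset.univ.val := FiniteField.roots_X_pow_card_sub_X F
    have hdeg : g.natDegree = q := FiniteField.X_pow_card_sub_X_natDegree_eq F hq1
    have hmon : g.Monic := Polynomial.monic_X_pow_sub (by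
      rw [Polynomial.degree_X]; exact_mod_cast hq1)
    have hpoly : ((Finset.univ.val : Multiset F).map fun a => Polynomial.X - Polynomial.C a).prod = g := by
      rw [← hroots]
      exact Polynomial.prod_multiset_X_sub_C_of_monic_of_roots_card_eq hmon (by rw [hroots, hdeg]; rfl)
    let φ : Polynomial F →* F := (Matrix.detMonoidHom (n := Fin 2) (R := F)).comp (Polynomial.aeval P).toMonoidHom
    have h1 := congrArg φ hpoly
    rw [map_multiset_prod] at h1
    have hg0 : φ g = 0 := by
      show (Polynomial.aeval P g).det = 0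
      rw [hg, map_sub, map_pow, Polynomial.aeval_X, hPq, sub_self, det_zero]
    rw [hg0, Multiset.prod_eq_zero_iff] at h1
    simp only [Multiset.map_map, Multiset.mem_map, Function.comp_apply] at h1
    obtain ⟨a, -, ha⟩ := h1
    change (Polynomial.aeval P (Polynomial.X - Polynomial.C a)).det = 0 at ha
    rw [map_sub, Polynomial.aeval_X, Polynomial.aeval_C, Algebra.algebraMap_eq_smul_one] at ha
    refine hirr a ?_
    rw [hP, det_fin_two] at ha
    simp [comp] at ha
    linear_combination ha
  have hc : (Q - P) * P = P * (Q - P) := by rw [sub_mul, mul_sub, hcomm.eq]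
  have hdet : (Q - P).det ≠ 0 := fun h0 => hne (eq_zero_or_det_ne_zero hirr hc h0)
  have hinv : IsUnit (Q - P) := (Matrix.isUnit_iff_isUnit_det _).2 (isUnit_iff_ne_zero.2 hdet)
  have hQ2 : Q + P - t • (1 : M2 F) = 0 := hinv.mul_right_eq_zero.1 hprod
  rw [pow_succ, ← hQ, show Q = t • (1 : M2 F) - P from by rw [← sub_eq_zero, ← hQ2]; abel, sub_mul,
    Matrix.smul_mul, one_mul, hCH]
  abel

/-- The order of a matrix without eigenvalue is prime to the characteristic. -/
theorem comp_order {t n : F} (hirr : ∀ r : F, r * r - t * r + n ≠ 0) (p : ℕ) [Fact p.Prime] [CharP F p]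
    (P : GL (Fin 2) F) (hP : (P : M2 F) = comp t n) : ¬ p ∣ orderOf P := by
  intro hdvd
  have hp : p.Prime := Fact.out
  haveI : CharP (M2 F) p := inferInstance
  have hpos : 0 < orderOf P := orderOf_pos P
  set u : GL (Fin 2) F := P ^ (orderOf P / p) with hu
  have hup : u ^ p = 1 := by rw [hu, ← pow_mul, Nat.div_mul_cancel hdvd, pow_orderOf_eq_one]
  have hune : u ≠ 1 :=
    pow_ne_one_of_lt_orderOf (Nat.div_pos (Nat.le_of_dvd hpos hdvd) hp.pos).ne' (Nat.div_lt_self hpos hp.one_lt)
  have hnil : ((u : M2 F) - 1) ^ p = 0 := by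
    rw [sub_pow_char_of_commute (p := p) (Commute.one_right _), one_pow, ← Units.val_pow_eq_pow_val, hup,
      Units.val_one, sub_self]
  have hdet : ((u : M2 F) - 1).det = 0 := by
    have := congrArg Matrix.det hnil
    rw [det_pow, det_zero] at this
    exact eq_zero_of_pow_eq_zero this
  have hc : ((u : M2 F) - 1) * comp t n = comp t n * ((u : M2 F) - 1) := by
    rw [← hP, sub_mul, mul_sub, one_mul, mul_one, ← Units.val_mul, ← Units.val_mul, hu,
      (Commute.pow_self P _).eq]
  exact hune (Units.ext (sub_eq_zero.1 (eq_zero_or_det_ne_zero hirr hc hdet)))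

/-- Irreducible quadratics with prescribed constant term. -/
theorem exists_noRoot {n : F} (hn : n ≠ 0) : ∃ t : F, ∀ r : F, r * r - t * r + n ≠ 0 := by
  classical
  by_contra h
  push Not at h
  choose f hf using h
  have h0 : ∀ t, f t ≠ 0 := fun t e => hn (by have := hf t; rw [e] at this; simpa using this)
  have hinj : Function.Injective fun t : F => (⟨f t, h0 t⟩ : {x : F // x ≠ 0}) := by
    intro a b e
    have e' : f a = f b := congrArg Subtype.val e
    have ha := hf a
    have hb := hf b
    rw [e'] at ha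
    exact mul_right_cancel₀ (h0 b) (by linear_combination hb - ha)
  have := Fintype.card_le_of_injective _ hinj
  rw [Fintype.card_subtype_compl, Fintype.card_subtype_eq] at this
  have : 1 < Fintype.card F := Fintype.one_lt_card
  omega

end Finite

end Cfsg.Agent.Lib.ThompsonG2
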