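import Cfsg.Agent.Lib.Ree.Cell

/-!
Root groups, rank one homomorphisms and commutator rules of the Chevalley group of type G2 (helper65).
-/

set_option autoImplicit false

namespace Cfsg.Agent.Lib.ThompsonG2

open Cfsg.Lie Cfsg.Agent.Lib.Chev Cfsg.Agent.Lib.Ree
open Cfsg.Agent.Lib.Chev.RankOneData (upper lower wElt sl_ext mul_entry upper_entries lower_entries wElt_entries)
open scoped Matrix MatrixGroups

variable {F : Type*} [Field F]

/-- The group generated by the root groups of a list of roots. -/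
abbrev rg (F : Type*) [Field F] (L : List ℕ) : Subgroup (GG F) := rootGen chevG2 F {r | r ∈ L}

/-- Positive roots. -/
def posL : List ℕ := [6, 7, 8, 9, 10, 11]

/-- Negative roots. -/
def negL : List ℕ := [0, 1, 2, 3, 4, 5]

theorem X_mem {L : List ℕ} (r : Fin 12) (h : r.val ∈ L) (t : F) : X r t ∈ rg F L := X_mem_rootGen r t h

theorem rg_mono {L L' : List ℕ} (h : L.all (fun r => L'.contains r) = true) : rg F L ≤ rg F L' := by
  refine rootGen_mono fun r hr => ?_
  simp only [List.all_eq_true, List.contains_iff_mem] at h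
  exact h r hr

theorem pos_eq : chevG2.posUnipotent F = rg F posL := by
  rw [checked_G2.posUnipotent_eq]
  congr 1
  ext r
  show (6 ≤ r ∧ r < 12) ↔ r ∈ posL
  constructor
  · rintro ⟨a, b⟩; interval_cases r <;> decide
  · intro h; fin_cases h <;> omega

theorem neg_eq : chevG2.negUnipotent F = rg F negL := by
  rw [checked_G2.negUnipotent_eq]
  congr 1
  ext r
  show r < 6 ↔ r ∈ negL
  constructor
  · intro a; interval_cases r <;> decide
  · intro h; fin_cases h <;> omega

theorem rg_le_group {L : List ℕ} (h : L.all (fun r => Nat.blt r 12) = true) : rg F L ≤ chevG2.group F := by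
  simp only [List.all_eq_true, Nat.blt_eq] at h
  exact rootGen_le_group h

/-- The commutators of `r` with the roots of `L` stay in `L`. -/
def nchk (r : ℕ) (L : List ℕ) : Bool :=
  L.all fun s => Nat.blt s 12 &&
    (s == r || (s != ng chevG2 r && (cTerms G2.cert r s).all fun c => L.contains c.1))

theorem X_normalizes {r : Fin 12} {L : List ℕ} (h : nchk r.val L = true) (t : F) :
    X r t ∈ Subgroup.normalizer (rg F L : Set (GG F)) := by
  simp only [nchk, List.all_eq_true, Bool.and_eq_true, Nat.blt_eq, Bool.or_eq_true, beq_iff_eq, bne_iff_ne,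
    List.contains_iff_mem] at h
  exact checked_G2.rootSubgroup_le_normalizer (fun s hs => (h s hs).1) r.isLt
    (fun s hs hne => (h s hs).2.resolve_left hne) ((checked_G2.rootSubgroup_mem_iff r.isLt).2 ⟨t, rfl⟩)

theorem tor_normalizes {L : List ℕ} (h : L.all (fun r => Nat.blt r 12) = true) (a b : Fˣ) :
    tor a b ∈ Subgroup.normalizer (rg F L : Set (GG F)) := by
  simp only [List.all_eq_true, Nat.blt_eq] at h
  exact rooted_G2.diagonal_le_normalizer h (mem_diagonal_iff.2 ⟨a, b, rfl⟩)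

section Normal

variable {G : Type*} [Group G] {H : Subgroup G} {a x : G}

theorem nconj (ha : a ∈ Subgroup.normalizer (H : Set G)) (hx : x ∈ H) : a * x * a⁻¹ ∈ H :=
  (Subgroup.mem_normalizer_iff.1 ha x).1 hx

theorem nconj' (ha : a ∈ Subgroup.normalizer (H : Set G)) (hx : x ∈ H) : a⁻¹ * x * a ∈ H := by
  simpa using nconj (inv_mem ha) hx

end Normal

theorem rg_split {r : Fin 12} {L : List ℕ} (h : nchk r.val L = true) {g : GG F} (hg : g ∈ rg F (r.val :: L)) :
    ∃ t, ∃ w ∈ rg F L, g = X r t * w := by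
  have hn : chevG2.rootSubgroup F r.val ≤ Subgroup.normalizer (rg F L : Set (GG F)) := fun x hx => by
    obtain ⟨t, rfl⟩ := (checked_G2.rootSubgroup_mem_iff r.isLt).1 hx
    exact X_normalizes h t
  have hle : rg F (r.val :: L) ≤ chevG2.rootSubgroup F r.val ⊔ rg F L := by
    refine (Subgroup.closure_le _).2 ?_
    rintro x ⟨s, t, hs, e⟩
    rcases List.mem_cons.1 hs with rfl | hs
    · exact Subgroup.mem_sup_left (Subgroup.subset_closure ⟨t, e⟩)
    · exact Subgroup.mem_sup_right (mem_rootGen (S := {s | s ∈ L}) hs e)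
  have hg' : g ∈ (↑(chevG2.rootSubgroup F r.val ⊔ rg F L) : Set (GG F)) := hle hg
  rw [Subgroup.coe_mul_of_left_le_normalizer_right _ _ hn] at hg'
  obtain ⟨a, ha, b, hb, rfl⟩ := hg'
  obtain ⟨t, rfl⟩ := (checked_G2.rootSubgroup_mem_iff r.isLt).1 ha
  exact ⟨t, b, hb, rfl⟩

theorem rg_split' {r : Fin 12} {L : List ℕ} (h : nchk r.val L = true) {g : GG F} (hg : g ∈ rg F (r.val :: L)) :
    ∃ t, ∃ w ∈ rg F L, g = w * X r t := by
  obtain ⟨t, w, hw, rfl⟩ := rg_split h hg
  exact ⟨t, X r t * w * (X r t)⁻¹, nconj (X_normalizes h t) hw, by group⟩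

/-- A root element for any index. -/
noncomputable def xn (c : ℕ) (t : F) : GG F := if h : c < 12 then X ⟨c, h⟩ t else 1

/-- Conjugation of a root element by another, by the commutator formula. -/
theorem conj_formula (r s : Fin 12) (l : List (ℕ × ℤ × ℕ × ℕ)) (h1 : s.val ≠ r.val)
    (h2 : s.val ≠ ng chevG2 r.val) (hl : cTerms G2.cert r.val s.val = l) (k u : F) :
    X r k * X s u * X r (-k) =
      X s u * (l.map fun c => xn c.1 ((c.2.1 : F) * k ^ c.2.2.1 * u ^ c.2.2.2)).prod := by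
  refine Units.ext ?_
  have e := checked_G2.commutator_formula (F := F) r.isLt s.isLt h1 h2 (-k) u
  rw [checked_G2.commWord_eq r.isLt s.isLt, hl] at e
  simp only [neg_neg] at e
  have hw : ∀ m : List (ℕ × ℤ × ℕ × ℕ), (∀ c ∈ m, c.1 < 12) →
      (((m.map fun c => xn c.1 ((c.2.1 : F) * k ^ c.2.2.1 * u ^ c.2.2.2)).prod : GG F) :
        Matrix chevG2.Idx chevG2.Idx F) =
      chevG2.wordMat F (m.map fun c => (c.1, (c.2.1 : F) * k ^ c.2.2.1 * u ^ c.2.2.2)) := by
    intro m hm
    induction m with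
    | nil => simp [ChevalleyDatum.wordMat]
    | cons c m ih =>
      simp only [List.map_cons, List.prod_cons, ChevalleyDatum.wordMat] at ih ⊢
      rw [Units.val_mul, ih fun c' hc' => hm c' (List.mem_cons_of_mem _ hc'), xn,
        dif_pos (hm c List.mem_cons_self), coe_X]
  rw [Units.val_mul, Units.val_mul, Units.val_mul, hw l (hl ▸ checked_G2.cTerms_lt r.isLt s.isLt), coe_X, coe_X,
    coe_X, mul_assoc, e, ← mul_assoc, ← mul_assoc, checked_G2.x_mul_neg r.isLt, one_mul]

theorem X_comm (r s : Fin 12) (h1 : s.val ≠ r.val) (h2 : s.val ≠ ng chevG2 r.val)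
    (hl : cTerms G2.cert r.val s.val = []) (k u : F) : X r k * X s u = X s u * X r k := by
  have e := conj_formula r s [] h1 h2 hl k u
  rw [List.map_nil, List.prod_nil, mul_one, ← X_inv, mul_inv_eq_iff_eq_mul] at e
  exact e

/-! ### Rank one homomorphisms -/

/-- The opposite root. -/
def opp (r : Fin 12) : Fin 12 := ⟨11 - r.val, by omega⟩

/-- The rank one homomorphism of a root. -/
noncomputable def phi (r : Fin 12) : SL(2, F) →* GG F :=
  Classical.choose (rooted_G2.hasSL2 (F := F) Twisted.etaSigns_G2 r.val r.isLt r.isLt)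

theorem phi_upper (r : Fin 12) (t : F) : phi r (upper t) = X r t :=
  ((Classical.choose_spec (rooted_G2.hasSL2 (F := F) Twisted.etaSigns_G2 r.val r.isLt r.isLt)).2 t).1

theorem phi_lower (r : Fin 12) (t : F) : phi r (lower t) = X (opp r) t :=
  ((Classical.choose_spec (rooted_G2.hasSL2 (F := F) Twisted.etaSigns_G2 r.val r.isLt r.isLt)).2 t).2

theorem wElt_eq : (wElt : SL(2, F)) = upper 1 * lower (-1) * upper 1 := by
  refine sl_ext ?_ ?_ ?_ ?_ <;> simp [mul_entry, upper_entries, lower_entries, wElt_entries]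

theorem sl2_le {M : Type*} [Group M] (f : SL(2, F) →* M) (H : Subgroup M) (hu : ∀ t, f (upper t) ∈ H)
    (hl : ∀ t, f (lower t) ∈ H) (g : SL(2, F)) : f g ∈ H := by
  suffices (⊤ : Subgroup SL(2, F)) ≤ H.comap f from this (Subgroup.mem_top g)
  rw [← RankOneData.closure_gens, Subgroup.closure_le]
  rintro g (⟨t, rfl⟩ | rfl)
  · exact hu t
  · show f wElt ∈ H
    rw [wElt_eq, map_mul, map_mul]
    exact mul_mem (mul_mem (hu _) (hl _)) (hu _)

theorem sl2_ext {M : Type*} [Group M] (f f' : SL(2, F) →* M) (hu : ∀ t, f (upper t) = f' (upper t))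
    (hl : ∀ t, f (lower t) = f' (lower t)) (g : SL(2, F)) : f g = f' g := by
  suffices (⊤ : Subgroup SL(2, F)) ≤ MonoidHom.eqLocus f f' from this (Subgroup.mem_top g)
  rw [← RankOneData.closure_gens, Subgroup.closure_le]
  rintro g (⟨t, rfl⟩ | rfl)
  · exact hu t
  · show f wElt = f' wElt
    rw [wElt_eq, map_mul, map_mul, map_mul, map_mul, hu, hl]

theorem phi_mem (r : Fin 12) (g : SL(2, F)) : phi r g ∈ chevG2.group F :=
  sl2_le _ _ (fun t => by rw [phi_upper]; exact X_mem_group r t)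
    (fun t => by rw [phi_lower]; exact X_mem_group _ t) g

theorem phi_normalizes {r : Fin 12} {L : List ℕ} (h : (nchk r.val L && nchk (opp r).val L) = true) (g : SL(2, F)) :
    phi r g ∈ Subgroup.normalizer (rg F L : Set (GG F)) := by
  simp only [Bool.and_eq_true] at h
  exact sl2_le _ _ (fun t => by rw [phi_upper]; exact X_normalizes h.1 t)
    (fun t => by rw [phi_lower]; exact X_normalizes h.2 t) g

theorem phi_commute_X {r s : Fin 12} (h : ∀ r' ∈ [r, opp r], s.val ≠ r'.val ∧ s.val ≠ ng chevG2 r'.val ∧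
    cTerms G2.cert r'.val s.val = []) (g : SL(2, F)) (t : F) : phi r g * X s t = X s t * phi r g := by
  have key := sl2_le (phi r) (Subgroup.centralizer ({X s t} : Set (GG F))) (fun u => ?_) (fun u => ?_) g
  · exact ((Subgroup.mem_centralizer_iff.1 key) _ rfl).symm
  · rw [Subgroup.mem_centralizer_iff, phi_upper]
    rintro _ rfl
    obtain ⟨a, b, c⟩ := h r (by simp)
    exact (X_comm r s a b c u t).symm
  · rw [Subgroup.mem_centralizer_iff, phi_lower]
    rintro _ rfl
    obtain ⟨a, b, c⟩ := h (opp r) (by simp)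
    exact (X_comm (opp r) s a b c u t).symm

/-- The diagonal matrices of determinant one. -/
def dia (t : Fˣ) : SL(2, F) :=
  ⟨!![(t : F), 0; 0, ((t⁻¹ : Fˣ) : F)], by rw [Matrix.det_fin_two_of]; simp⟩

theorem dia_entries (t : Fˣ) : dia t 0 0 = (t : F) ∧ dia t 0 1 = 0 ∧ dia t 1 0 = 0 ∧
    dia t 1 1 = ((t⁻¹ : Fˣ) : F) := ⟨rfl, rfl, rfl, rfl⟩

theorem dia_eq (t : Fˣ) :
    dia t = upper (t : F) * lower (-(t : F)⁻¹) * upper (t : F) * (upper (-1) * lower 1 * upper (-1)) := by
  have ht := t.ne_zero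
  refine sl_ext ?_ ?_ ?_ ?_ <;>
    simp [mul_entry, upper_entries, lower_entries, dia_entries, Units.val_inv_eq_inv_val] <;> field_simp <;> ring

theorem phi_dia (r : Fin 12) (t : Fˣ) :
    phi r (dia t) = tor (t ^ cor chevG2 G2.cert 0 r.val) (t ^ cor chevG2 G2.cert 1 r.val) := by
  refine Units.ext ?_
  have e : tor (t ^ cor chevG2 G2.cert 0 r.val) (t ^ cor chevG2 G2.cert 1 r.val) =
      torusHom chevG2 F (fun k => t ^ cor chevG2 G2.cert k r.val) := by
    refine Units.ext ?_
    rw [tor, coe_torusHom, coe_torusHom]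
    congr 1
  have hr : r.val < chevG2.nroots := r.isLt
  rw [e, ← rooted_G2.hMat_torus hr t, checked_G2.hMat_eq_mul, dia_eq]
  have hopp : (opp r).val = ng chevG2 r.val := rfl
  simp only [map_mul, phi_upper, phi_lower, Units.val_mul, coe_X, ChevalleyDatum.nMat, ChevalleyDatum.nWord,
    ChevalleyDatum.wordMat, List.map_cons, List.map_nil, List.prod_cons, List.prod_nil, mul_one,
    checked_G2.neg_eq hr, hopp]
  simp [mul_assoc]

theorem phi_dia_seven (t : Fˣ) : phi 7 (dia t) = tor t 1 := by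
  rw [phi_dia, show cor chevG2 G2.cert 0 (7 : Fin 12).val = 1 by decide +kernel,
    show cor chevG2 G2.cert 1 (7 : Fin 12).val = 0 by decide +kernel, zpow_one, zpow_zero]

theorem phi_dia_six (t : Fˣ) : phi 6 (dia t) = tor 1 t := by
  rw [phi_dia, show cor chevG2 G2.cert 0 (6 : Fin 12).val = 0 by decide +kernel,
    show cor chevG2 G2.cert 1 (6 : Fin 12).val = 1 by decide +kernel, zpow_one, zpow_zero]

theorem phi_dia_eleven (t : Fˣ) : phi 11 (dia t) = tor t (t ^ 2) := by
  rw [phi_dia, show cor chevG2 G2.cert 0 (11 : Fin 12).val = 1 by decide +kernel,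
    show cor chevG2 G2.cert 1 (11 : Fin 12).val = 2 by decide +kernel, zpow_one, zpow_ofNat]

/-- Conjugation by `diag (a, 1)`. -/
def scFun (a : Fˣ) (g : SL(2, F)) : SL(2, F) :=
  ⟨!![g 0 0, (a : F) * g 0 1; ((a⁻¹ : Fˣ) : F) * g 1 0, g 1 1], by
    rw [Matrix.det_fin_two_of]
    linear_combination RankOneData.det_eq g - g 0 1 * g 1 0 * a.mul_inv⟩

theorem scFun_entries (a : Fˣ) (g : SL(2, F)) :
    scFun a g 0 0 = g 0 0 ∧ scFun a g 0 1 = (a : F) * g 0 1 ∧
      scFun a g 1 0 = ((a⁻¹ : Fˣ) : F) * g 1 0 ∧ scFun a g 1 1 = g 1 1 := ⟨rfl, rfl, rfl, rfl⟩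

/-- Conjugation by `diag (a, 1)`, as a homomorphism. -/
def sc (a : Fˣ) : SL(2, F) →* SL(2, F) :=
  MonoidHom.mk' (scFun a) (fun g h => by
    refine sl_ext ?_ ?_ ?_ ?_ <;> simp only [mul_entry, scFun_entries]
    · linear_combination -g 0 1 * h 1 0 * a.mul_inv
    · ring
    · ring
    · linear_combination -g 1 0 * h 0 1 * a.mul_inv)

theorem sc_entries (a : Fˣ) (g : SL(2, F)) :
    sc a g 0 0 = g 0 0 ∧ sc a g 0 1 = (a : F) * g 0 1 ∧
      sc a g 1 0 = ((a⁻¹ : Fˣ) : F) * g 1 0 ∧ sc a g 1 1 = g 1 1 := ⟨rfl, rfl, rfl, rfl⟩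

theorem sc_upper (a : Fˣ) (t : F) : sc a (upper t) = upper ((a : F) * t) := by
  refine sl_ext ?_ ?_ ?_ ?_ <;> simp [sc_entries, upper_entries]

theorem sc_lower (a : Fˣ) (t : F) : sc a (lower t) = lower (((a⁻¹ : Fˣ) : F) * t) := by
  refine sl_ext ?_ ?_ ?_ ?_ <;> simp [sc_entries, lower_entries]

theorem chi_opp (s e : Fˣ) (r : Fin 12) : chi s e (opp r) = (chi s e r)⁻¹ := by
  fin_cases r <;> simp [chi, opp, mul_comm]

theorem tor_conj_phi (s e : Fˣ) (r : Fin 12) (m : SL(2, F)) :
    tor s e * phi r m * (tor s e)⁻¹ = phi r (sc (chi s e r) m) := by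
  refine sl2_ext ((MulAut.conj (tor s e)).toMonoidHom.comp (phi r)) ((phi r).comp (sc (chi s e r)))
    (fun t => ?_) (fun t => ?_) m
  · simp only [MonoidHom.comp_apply, MulEquiv.coe_toMonoidHom, MulAut.conj_apply, phi_upper, tor_conj_X, sc_upper]
  · simp only [MonoidHom.comp_apply, MulEquiv.coe_toMonoidHom, MulAut.conj_apply, phi_lower, tor_conj_X, sc_lower,
      chi_opp]

theorem tor_mem_group (s e : Fˣ) : tor s e ∈ chevG2.group F :=
  rooted_G2.diagonal_le_group (mem_diagonal_iff.2 ⟨s, e, rfl⟩)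

theorem tor_inv (s e : Fˣ) : (tor s e)⁻¹ = tor s⁻¹ e⁻¹ :=
  inv_eq_of_mul_eq_one_right (by rw [tor_mul, mul_inv_cancel, mul_inv_cancel, tor_one])

theorem tor_swap (s e : Fˣ) (r : Fin 12) (t : F) : tor s e * X r t = X r ((chi s e r : F) * t) * tor s e := by
  rw [← tor_conj_X, inv_mul_cancel_right]

theorem tor_swap' (s e : Fˣ) (r : Fin 12) (t : F) :
    X r t * tor s e = tor s e * X r (((chi s e r)⁻¹ : Fˣ) * t) := by
  rw [tor_swap, ← mul_assoc, Units.mul_inv, one_mul]

theorem phi_wElt_conj {i : Fin 12} (hi : i = 6 ∨ i = 7) (r : Fin 12) (t : F) :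
    phi i wElt * X r t * (phi i wElt)⁻¹ =
      xn (refl G2.cert (if i = 7 then 0 else 1) r.val) ((eta G2.cert (if i = 7 then 0 else 1) r.val : F) * t) := by
  set j : ℕ := if i = 7 then 0 else 1 with hj
  have hj2 : j < chevG2.rank := by rw [hj]; split_ifs <;> decide
  have hsimp : chevG2.simple j = i.val := by rcases hi with rfl | rfl <;> rfl
  have e : phi i (wElt : SL(2, F)) = nS checked_G2 F j := by
    refine Units.ext ?_
    rw [coe_nS checked_G2 hj2, wElt_eq, hsimp]
    have hr : i.val < chevG2.nroots := i.isLt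
    have hopp : (opp i).val = ng chevG2 i.val := rfl
    simp only [map_mul, phi_upper, phi_lower, Units.val_mul, coe_X, ChevalleyDatum.nMat, ChevalleyDatum.nWord,
      ChevalleyDatum.wordMat, List.map_cons, List.map_nil, List.prod_cons, List.prod_nil, mul_one,
      checked_G2.neg_eq hr, hopp, inv_one]
    simp [mul_assoc]
  have hlt : refl G2.cert j r.val < 12 := checked_G2.refl_lt hj2 r.isLt
  rw [e, xn, dif_pos hlt, mul_inv_eq_iff_eq_mul]
  exact checked_G2.nS_conj_x hj2 r.isLt t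

end Cfsg.Agent.Lib.ThompsonG2
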