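import Cfsg.Agent.Lib.ThompsonG2.Levi

/-!
The bad states in characteristic two: they can always be moved to a splitting one (helper65).
-/

set_option autoImplicit false
set_option maxHeartbeats 400000

namespace Cfsg.Agent.Lib.ThompsonG2

open Cfsg.Lie Cfsg.Agent.Lib.Chev Cfsg.Agent.Lib.Ree
open Cfsg.Agent.Lib.Chev.RankOneData (upper lower wElt sl_ext mul_entry upper_entries lower_entries wElt_entries)
open scoped Matrix MatrixGroups

variable {F : Type*} [Field F]

/-- The coset of the lower layer with coordinates `(a, b)`. -/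
def InC (a b : F) (v : GG F) : Prop := ∃ l ∈ rg F [2, 1, 0], v = X 5 a * X 3 b * l

/-- The coset of the upper layer with first coordinate `a`. -/
def InD (a : F) (u : GG F) : Prop := ∃ w ∈ rg F [8, 9, 10, 11], u = X 6 a * w

theorem InC.mul {a b c d : F} {v w : GG F} (hv : InC a b v) (hw : InC c d w) : InC (a + c) (b + d) (v * w) := by
  obtain ⟨l, hl, rfl⟩ := hv
  obtain ⟨l', hl', rfl⟩ := hw
  refine ⟨(X 3 d)⁻¹ * ((X 5 c)⁻¹ * l * X 5 c) * X 3 d * l',
    mul_mem (nconj' (X_normalizes (by decide +kernel) d) (nconj' (X_normalizes (by decide +kernel) c) hl)) hl', ?_⟩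
  have hcomm := X_comm (F := F) 5 3 (by decide) (by decide) (by decide +kernel) c b
  rw [← X_add, ← X_add]
  calc X 5 a * X 3 b * l * (X 5 c * X 3 d * l') =
        X 5 a * (X 3 b * X 5 c) * ((X 5 c)⁻¹ * l * X 5 c) * X 3 d * l' := by group
    _ = _ := by rw [← hcomm]; group

theorem InC.five (a : F) : InC a 0 (X 5 a) := ⟨1, one_mem _, by rw [X_zero, mul_one, mul_one]⟩

theorem InC.three (b : F) : InC 0 b (X 3 b) := ⟨1, one_mem _, by rw [X_zero, mul_one, one_mul]⟩

theorem InC.rest (r : Fin 12) (t : F) (h : r.val ∈ [2, 1, 0]) : InC 0 0 (X r t) :=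
  ⟨X r t, X_mem r h t, by rw [X_zero, X_zero, one_mul, one_mul]⟩

theorem InD.mul {a c : F} {v w : GG F} (hv : InD a v) (hw : InD c w) : InD (a + c) (v * w) := by
  obtain ⟨l, hl, rfl⟩ := hv
  obtain ⟨l', hl', rfl⟩ := hw
  refine ⟨(X 6 c)⁻¹ * l * X 6 c * l', mul_mem (nconj' (X_normalizes (by decide +kernel) c) hl) hl', ?_⟩
  rw [← X_add]
  group

theorem InD.six (a : F) : InD a (X 6 a) := ⟨1, one_mem _, by rw [mul_one]⟩

theorem InD.rest (r : Fin 12) (t : F) (h : r.val ∈ [8, 9, 10, 11]) : InD 0 (X r t) :=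
  ⟨X r t, X_mem r h t, by rw [X_zero, one_mul]⟩

theorem InC.mem {a b : F} {v : GG F} (hv : InC a b v) : v ∈ rg F (nodeA F).Lm := by
  obtain ⟨l, hl, rfl⟩ := hv
  exact mul_mem (mul_mem (X_mem 5 (by simp [nodeA]) a) (X_mem 3 (by simp [nodeA]) b))
    (rg_mono (show ([2, 1, 0] : List ℕ).all (fun r => (nodeA F).Lm.contains r) = true by simp [nodeA]) hl)

theorem exists_coords {v : GG F} (hv : v ∈ rg F (nodeA F).Lm) :
    ∃ v0 v1 v2 v3 v4 : F, v = X 5 v0 * (X 3 v1 * (X 2 v2 * (X 1 v3 * X 0 v4))) := by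
  obtain ⟨v0, w1, hw1, rfl⟩ := rg_split (r := 5) (L := [3, 2, 1, 0]) (by decide +kernel) hv
  obtain ⟨v1, w2, hw2, rfl⟩ := rg_split (r := 3) (L := [2, 1, 0]) (by decide +kernel) hw1
  obtain ⟨v2, w3, hw3, rfl⟩ := rg_split (r := 2) (L := [1, 0]) (by decide +kernel) hw2
  obtain ⟨v3, w4, hw4, rfl⟩ := rg_split (r := 1) (L := [0]) (by decide +kernel) hw3
  obtain ⟨v4, w5, hw5, rfl⟩ := rg_split (r := 0) (L := []) (by decide +kernel) hw4
  have hw5' : w5 = 1 := by simpa [rootGen] using hw5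
  subst hw5'
  exact ⟨v0, v1, v2, v3, v4, by rw [mul_one]⟩

section Two

variable [CharP F 2]

theorem intCast_odd {z : ℤ} (hz : z % 2 = 1) : (z : F) = 1 := by
  have h2 : (2 : F) = 0 := CharP.cast_eq_zero F 2
  have e : z = 2 * (z / 2) + 1 := by omega
  rw [e, Int.cast_add, Int.cast_mul, Int.cast_ofNat, h2, zero_mul, zero_add, Int.cast_one]

theorem intCast_even {z : ℤ} (hz : z % 2 = 0) : (z : F) = 0 := by
  have h2 : (2 : F) = 0 := CharP.cast_eq_zero F 2
  have e : z = 2 * (z / 2) := by omega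
  rw [e, Int.cast_mul, Int.cast_ofNat, h2, zero_mul]

theorem conj7_3 (k v : F) : InC (k * v) v (X 7 k * X 3 v * X 7 (-k)) := by
  rw [conj_formula 7 3 [(5, 3, 1, 1)] (by decide) (by decide) (by decide +kernel)]
  simp only [List.map_cons, List.map_nil, List.prod_cons, List.prod_nil, mul_one, pow_one]
  rw [intCast_odd (F := F) (show (3 : ℤ) % 2 = 1 from rfl), one_mul]
  have := (InC.three v).mul (InC.five (k * v))
  simpa [xn] using this

theorem conj7_2 (k v : F) : InC (k ^ 2 * v) 0 (X 7 k * X 2 v * X 7 (-k)) := by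
  rw [conj_formula 7 2 [(3, 2, 1, 1), (5, 3, 2, 1), (0, -3, 1, 2)] (by decide) (by decide) (by decide +kernel)]
  simp only [List.map_cons, List.map_nil, List.prod_cons, List.prod_nil, mul_one, pow_one]
  rw [intCast_odd (F := F) (show (3 : ℤ) % 2 = 1 from rfl), intCast_even (F := F) (show (2 : ℤ) % 2 = 0 from rfl),
    one_mul, zero_mul, zero_mul]
  have := (InC.rest 2 v (by simp)).mul ((InC.three (0 : F)).mul ((InC.five (k ^ 2 * v)).mul
    (InC.rest 0 (((-3 : ℤ) : F) * k * v ^ 2) (by simp))))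
  simpa [xn] using this

theorem conj7_1 (k v : F) : InC (k ^ 3 * v) (k ^ 2 * v) (X 7 k * X 1 v * X 7 (-k)) := by
  rw [conj_formula 7 1 [(2, -1, 1, 1), (3, -1, 2, 1), (5, -1, 3, 1), (0, -1, 3, 2)] (by decide) (by decide)
    (by decide +kernel)]
  simp only [List.map_cons, List.map_nil, List.prod_cons, List.prod_nil, mul_one, pow_one]
  rw [intCast_odd (F := F) (show (-1 : ℤ) % 2 = 1 from rfl)]
  simp only [one_mul]
  have := (InC.rest 1 v (by simp)).mul ((InC.rest 2 (k * v) (by simp)).mul ((InC.three (k ^ 2 * v)).mul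
    ((InC.five (k ^ 3 * v)).mul (InC.rest 0 (k ^ 3 * v ^ 2) (by simp)))))
  simpa [xn] using this

theorem conj7_five (k v : F) : InC v 0 (X 7 k * X 5 v * X 7 (-k)) := by
  rw [conj_formula 7 5 [] (by decide) (by decide) (by decide +kernel), List.map_nil, List.prod_nil, mul_one]
  exact InC.five v

theorem conj7_0 (k v : F) : InC 0 0 (X 7 k * X 0 v * X 7 (-k)) := by
  rw [conj_formula 7 0 [] (by decide) (by decide) (by decide +kernel), List.map_nil, List.prod_nil, mul_one]
  exact InC.rest 0 v (by simp)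

/-- The shift of the lower layer by `x_a(k)`. -/
theorem shift7 (k v0 v1 v2 v3 v4 : F) :
    InC (v0 + k * v1 + k ^ 2 * v2 + k ^ 3 * v3) (v1 + k ^ 2 * v3)
      (X 7 k * (X 5 v0 * (X 3 v1 * (X 2 v2 * (X 1 v3 * X 0 v4)))) * (X 7 k)⁻¹) := by
  have := (conj7_five k v0).mul ((conj7_3 k v1).mul ((conj7_2 k v2).mul ((conj7_1 k v3).mul (conj7_0 k v4))))
  simp only [zero_add, add_zero, ← add_assoc] at this
  rw [← X_inv] at this
  convert this using 1
  group

theorem conj4_9 (k c : F) : InD (k ^ 2 * c) (X 4 k * X 9 c * X 4 (-k)) := by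
  rw [conj_formula 4 9 [(8, -2, 1, 1), (6, 3, 2, 1), (11, -3, 1, 2)] (by decide) (by decide) (by decide +kernel)]
  simp only [List.map_cons, List.map_nil, List.prod_cons, List.prod_nil, mul_one, pow_one]
  rw [intCast_odd (F := F) (show (3 : ℤ) % 2 = 1 from rfl), one_mul]
  have := (InD.rest 9 c (by simp)).mul ((InD.rest 8 (((-2 : ℤ) : F) * k * c) (by simp)).mul
    ((InD.six (k ^ 2 * c)).mul (InD.rest 11 (((-3 : ℤ) : F) * k * c ^ 2) (by simp))))
  simpa [xn] using this

theorem conj4_8 (k c : F) : InD (k * c) (X 4 k * X 8 c * X 4 (-k)) := by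
  rw [conj_formula 4 8 [(6, -3, 1, 1)] (by decide) (by decide) (by decide +kernel)]
  simp only [List.map_cons, List.map_nil, List.prod_cons, List.prod_nil, mul_one, pow_one]
  rw [intCast_odd (F := F) (show (-3 : ℤ) % 2 = 1 from rfl), one_mul]
  have := (InD.rest 8 c (by simp)).mul (InD.six (k * c))
  simpa [xn] using this

theorem conj4_6 (k c : F) : InD c (X 4 k * X 6 c * X 4 (-k)) := by
  rw [conj_formula 4 6 [] (by decide) (by decide) (by decide +kernel), List.map_nil, List.prod_nil, mul_one]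
  exact InD.six c

theorem conj4_11 (k c : F) : InD 0 (X 4 k * X 11 c * X 4 (-k)) := by
  rw [conj_formula 4 11 [] (by decide) (by decide) (by decide +kernel), List.map_nil, List.prod_nil, mul_one]
  exact InD.rest 11 c (by simp)

theorem shift4 (k u1 u2 u3 r : F) :
    InD (k ^ 2 * u1 + k * u2 + u3) (X 4 k * (X 9 u1 * (X 8 u2 * (X 6 u3 * X 11 r))) * (X 4 k)⁻¹) := by
  have := (conj4_9 k u1).mul ((conj4_8 k u2).mul ((conj4_6 k u3).mul (conj4_11 k r)))
  simp only [add_zero, ← add_assoc] at this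
  rw [← X_inv] at this
  convert this using 1
  group

theorem conj5_8 (l u : F) : ∃ w ∈ rg F [8, 9, 10, 11], X 5 l * X 8 u * X 5 (-l) = X 7 (l * u) * w := by
  rw [conj_formula 5 8 [(7, 1, 1, 1), (9, -1, 1, 2), (11, 1, 1, 3), (10, 2, 2, 3)] (by decide) (by decide)
    (by decide +kernel)]
  simp only [List.map_cons, List.map_nil, List.prod_cons, List.prod_nil, mul_one, pow_one, Int.cast_one, one_mul]
  refine ⟨(X 7 (l * u))⁻¹ * X 8 u * X 7 (l * u) * (xn 9 (((-1 : ℤ) : F) * l * u ^ 2) *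
      (xn 11 (l * u ^ 3) * xn 10 (((2 : ℤ) : F) * l ^ 2 * u ^ 3))), ?_, by simp [xn, mul_assoc]⟩
  refine mul_mem (nconj' (X_normalizes (by decide +kernel) _) (X_mem 8 (by simp) u)) ?_
  simp only [xn, dif_pos (show 9 < 12 by norm_num), dif_pos (show 11 < 12 by norm_num),
    dif_pos (show 10 < 12 by norm_num)]
  exact mul_mem (X_mem _ (by simp) _) (mul_mem (X_mem _ (by simp) _) (X_mem _ (by simp) _))

theorem conj6_3 (k b : F) : ∃ z ∈ rg F [3, 2, 1, 0], X 6 k * X 3 b * X 6 (-k) = X 4 (k * b) * z := by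
  rw [conj_formula 6 3 [(4, -1, 1, 1), (2, -1, 1, 2), (0, -1, 1, 3), (1, 2, 2, 3)] (by decide) (by decide)
    (by decide +kernel)]
  simp only [List.map_cons, List.map_nil, List.prod_cons, List.prod_nil, mul_one, pow_one]
  rw [intCast_odd (F := F) (show (-1 : ℤ) % 2 = 1 from rfl)]
  simp only [one_mul]
  refine ⟨(X 4 (k * b))⁻¹ * X 3 b * X 4 (k * b) * (xn 2 (k * b ^ 2) * (xn 0 (k * b ^ 3) *
      xn 1 (((2 : ℤ) : F) * k ^ 2 * b ^ 3))), ?_, by simp [xn, mul_assoc]⟩
  refine mul_mem (nconj' (X_normalizes (by decide +kernel) _) (X_mem 3 (by simp) b)) ?_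
  simp only [xn, dif_pos (show 2 < 12 by norm_num), dif_pos (show 0 < 12 by norm_num),
    dif_pos (show 1 < 12 by norm_num)]
  exact mul_mem (X_mem _ (by simp) _) (mul_mem (X_mem _ (by simp) _) (X_mem _ (by simp) _))

theorem wconj {i : Fin 12} (hi : i = 6 ∨ i = 7) (r r' : Fin 12)
    (h : refl G2.cert (if i = 7 then 0 else 1) r.val = r'.val) (t : F) :
    phi i wElt * X r t * (phi i wElt)⁻¹ = X r' t := by
  rw [phi_wElt_conj hi, h, xn, dif_pos r'.isLt]
  congr 1
  rcases eta_cases (C := G2.cert) (if i = 7 then 0 else 1) r.val with e | e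
  · rw [e, Int.cast_one, one_mul]
  · rw [e, intCast_odd (F := F) (show (-1 : ℤ) % 2 = 1 from rfl), one_mul]

variable [Fintype F]

/-- A bad state: the middle is a scalar times a unipotent element. -/
def BS (σ : Fˣ) (g : GG F) : Prop :=
  ∃ v ∈ rg F (nodeA F).Lm, ∃ u ∈ rg F (nodeA F).Lp, Cj g (v * tor σ (σ ^ 2) * X 7 1 * u)

omit [CharP F 2] [Fintype F] in
theorem card_four [Fintype F] [CharP F 2] (h3 : 3 ≤ Fintype.card F) : 4 ≤ Fintype.card F := by
  obtain ⟨k, -, hk⟩ := FiniteField.card F 2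
  rw [hk] at h3 ⊢
  rcases eq_or_ne (k : ℕ) 1 with h | h
  · rw [h] at h3; norm_num at h3
  · calc (4 : ℕ) = 2 ^ 2 := by norm_num
      _ ≤ _ := Nat.pow_le_pow_right (by norm_num) (by have := k.pos; omega)

open Polynomial in
omit [CharP F 2] in
theorem cubic_zero (h4 : 4 ≤ Fintype.card F) {a b c d : F} (h : ∀ k : F, a + k * b + k ^ 2 * c + k ^ 3 * d = 0) :
    a = 0 ∧ b = 0 ∧ c = 0 ∧ d = 0 := by
  set P : F[X] := C a + C b * Polynomial.X + C c * Polynomial.X ^ 2 + C d * Polynomial.X ^ 3 with hP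
  have hP0 : P = 0 := by
    refine Polynomial.eq_zero_of_natDegree_lt_card_of_eval_eq_zero' P Finset.univ (fun k _ => ?_) ?_
    · simp only [hP, eval_add, eval_mul, eval_C, eval_pow, eval_X]
      linear_combination h k
    · have : P.natDegree ≤ 3 := by rw [hP]; compute_degree
      rw [Finset.card_univ]; omega
  have e : ∀ i, P.coeff i = 0 := fun i => by rw [hP0, coeff_zero]
  refine ⟨?_, ?_, ?_, ?_⟩
  · simpa [hP, coeff_X_pow, coeff_C, coeff_X] using e 0
  · simpa [hP, coeff_X_pow, coeff_C, coeff_X] using e 1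
  · simpa [hP, coeff_X_pow, coeff_C, coeff_X] using e 2
  · simpa [hP, coeff_X_pow, coeff_C, coeff_X] using e 3

theorem sq_inj {a b : F} (h : a ^ 2 = b ^ 2) : a = b := by
  have : (a - b) ^ 2 = 0 := by rw [sub_pow_char, h, sub_self]
  exact sub_eq_zero.1 (eq_zero_of_pow_eq_zero this)

theorem add_inv_ne {σ : Fˣ} (h : σ ≠ 1) : (σ : F) + ((1 : Fˣ) : F) / (σ : F) ≠ 0 := by
  intro e
  apply h
  refine Units.ext (sq_inj ?_)
  have hs := σ.ne_zero
  rw [Units.val_one] at e ⊢
  field_simp at e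
  linear_combination e - (CharTwo.two_eq_zero : (2 : F) = 0)

theorem good_trace (π : Par F) {g v u : GG F} {p : F} {s e : Fˣ} {r : F} (h : (nodeA F).Dec g v p s e r u)
    (he : e = 1 ∨ e = π.n ^ 2) (ht : ((mid p s e r : GL (Fin 2) F) : M2 F).trace ≠ 0) : Good π.x g := by
  have hns : NonScalar ((mid p s e r : GL (Fin 2) F) : M2 F) := by
    refine Or.inr (Or.inr fun e' => ht ?_)
    rw [Matrix.trace_fin_two, e', CharTwo.add_self_eq_zero]
  rcases he with rfl | rfl
  · obtain ⟨A, hAt, hAd, hAw⟩ := exists_factor hns (t := π.t) (n := (π.n : F)) (w := π.t) (exists_conic_two ht)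
    exact π.good_mid h.1 h.2.1 (Dec_mid h) hAt hAd (Or.inr ⟨by rw [det_mid, Units.val_one], hAw⟩)
  · obtain ⟨A, hAt, hAd, hAw⟩ := exists_factor hns (t := π.t) (n := (π.n : F)) (w := (π.n : F) * π.t)
      (exists_conic_two ht)
    exact π.good_mid h.1 h.2.1 (Dec_mid h) hAt hAd (Or.inl ⟨by rw [det_mid, Units.val_pow_eq_pow_val, sq], hAw⟩)

theorem dichotomy (π : Par F) {σ : Fˣ} (hσ : σ = 1 ∨ σ = π.n) {g v u : GG F} {s : Fˣ}
    (h : Rep g v s (σ ^ 2) u) : Good π.x g ∨ BS σ g := by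
  obtain ⟨v', p, r, u', hd⟩ := (nodeA F).exists_dec h
  have he : σ ^ 2 = 1 ∨ σ ^ 2 = π.n ^ 2 := by rcases hσ with rfl | rfl <;> simp
  set M := mid p s (σ ^ 2) r with hM
  have hdet : (M : M2 F).det = (σ : F) ^ 2 := by rw [hM, det_mid, Units.val_pow_eq_pow_val]
  by_cases ht : (M : M2 F).trace = 0
  swap
  · exact Or.inl (good_trace π hd he ht)
  by_cases hns : NonScalar (M : M2 F)
  · right
    let u1 : GL (Fin 2) F := Matrix.GeneralLinearGroup.mkOfDetNeZero !![1, 1; 0, 1] (by simp [Matrix.det_fin_two])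
    set U := scal σ * u1 with hU
    have hUc : (U : M2 F) = !![(σ : F), (σ : F); 0, (σ : F)] := by
      rw [hU, Units.val_mul, coe_scal, Matrix.smul_mul, one_mul]
      show (σ : F) • !![(1 : F), 1; 0, 1] = _
      ext i j
      fin_cases i <;> fin_cases j <;> simp
    obtain ⟨k, hk⟩ := conj_of_invariants (A := M) (B := U) hns
      (Or.inl (by rw [hUc]; exact σ.ne_zero))
      (by rw [ht, hUc, Matrix.trace_fin_two_of, CharTwo.add_self_eq_zero])
      (by rw [hdet, hUc, Matrix.det_fin_two_of]; ring)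
    have hPU : Phi U = tor σ (σ ^ 2) * X 7 1 := by
      rw [hU, map_mul, Phi_scal, Phi_sl (upper 1) u1 rfl, phi_upper]
    refine ⟨(Phi k)⁻¹ * v' * Phi k, nconj' (Phi_normM k) hd.1, (Phi k)⁻¹ * u' * Phi k,
      nconj' (Phi_normP k) hd.2.1, ?_⟩
    have e := (Dec_mid hd).conj (inv_mem (Phi_mem k))
    rw [← hM, hk, map_mul, map_mul, map_inv, hPU] at e
    convert e using 1
    group
  · left
    have hM1 := eq_scalar_of_not hns
    have hc : (M : M2 F) 0 0 = (σ : F) := by
      apply sq_inj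
      rw [← hdet]
      conv_rhs => rw [hM1]
      rw [Matrix.det_smul, Fintype.card_fin, Matrix.det_one, mul_one]
    rw [hc] at hM1
    rcases hσ with rfl | rfl
    · exact π.good_scalar_one hd.1 hd.2.1 (Dec_mid hd) (by rw [hM1, Units.val_one, one_smul])
    · exact π.good_scalar_n hd.1 hd.2.1 (Dec_mid hd) hM1

/-- The key computation for a bad state with `σ ≠ 1`. -/
theorem core_two (π : Par F) {σ : Fˣ} (hσ : σ ≠ 1) (h3 : 3 ≤ Fintype.card F) {g v u : GG F} {a b : F}
    (hv : InC a b v) (hu : u ∈ rg F [8, 9, 10, 11]) (hg : Cj g (v * tor σ (σ ^ 2) * X 7 1 * u))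
    (hbad : ¬ Good π.x g) : a = b ∧ b ≠ 0 := by
  obtain ⟨l0, hl0, ev⟩ := hv
  obtain ⟨u1, w9, hw9, eu⟩ := rg_split (r := 8) (L := [9, 10, 11]) (by decide +kernel) hu
  set T : GG F := tor σ (σ ^ 2) with hT
  have hc5 : chi σ (σ ^ 2) 5 = σ⁻¹ := by
    show σ ^ (3 : ℤ) * (σ ^ 2) ^ (-2 : ℤ) = σ⁻¹
    group
  have hc6 : chi σ (σ ^ 2) 6 = σ := by
    show σ ^ (-3 : ℤ) * (σ ^ 2) ^ (2 : ℤ) = σ
    group
  set γ : F := 1 + ((σ⁻¹ : Fˣ) : F) with hγ
  have hγ0 : γ ≠ 0 := by
    intro e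
    apply hσ
    rw [← inv_eq_one]
    refine Units.ext ?_
    rw [Units.val_one]
    linear_combination e - (CharTwo.two_eq_zero : (2 : F) = 0)
  have key : ∀ l : F, a + γ * l ≠ 0 → b * (1 + l * u1) = a + γ * l := by
    intro l hL
    set L : F := a + γ * l with hLdef
    obtain ⟨w8, hw8, e58⟩ := conj5_8 l u1
    set w' : GG F := w8 * (X 5 l * w9 * (X 5 l)⁻¹) with hw'
    have hw9' : X 5 l * w9 * (X 5 l)⁻¹ ∈ rg F [9, 10, 11] := nconj (X_normalizes (by decide +kernel) l) hw9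
    have hw'm : w' ∈ rg F [8, 9, 10, 11] := mul_mem hw8 (rg_mono (by decide) hw9')
    have hv2 : InC L b (X 5 l * v * X 5 (((σ⁻¹ : Fˣ) : F) * -l)) := by
      have := ((InC.five l).mul ⟨l0, hl0, ev⟩).mul (InC.five (((σ⁻¹ : Fˣ) : F) * -l))
      convert this using 1
      · rw [hLdef, hγ]
        linear_combination ((σ⁻¹ : Fˣ) : F) * l * (CharTwo.two_eq_zero : (2 : F) = 0)
      · ring
    obtain ⟨l1, hl1, ev2⟩ := hv2
    have step1 : Cj g (X 5 l * v * X 5 (((σ⁻¹ : Fˣ) : F) * -l) * T * X 7 (1 + l * u1) * w') := by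
      have h5G := X_mem_group (K := F) 5 l
      have e := hg.conj h5G
      have hTX : T * X 5 (-l) = X 5 (((σ⁻¹ : Fˣ) : F) * -l) * T := by rw [hT, tor_swap, hc5]
      have h75 : X 7 (1 : F) * X 5 (-l) = X 5 (-l) * X 7 1 :=
        X_comm 7 5 (by decide) (by decide) (by decide +kernel) 1 (-l)
      have e58' : X 8 u1 = X 5 (-l) * (X 7 (l * u1) * w8) * (X 5 (-l))⁻¹ := by
        rw [← e58, ← X_inv]; group
      convert e using 1
      rw [eu, e58', hw', ← X_add]
      calc X 5 l * v * X 5 (((σ⁻¹ : Fˣ) : F) * -l) * T * (X 7 1 * X 7 (l * u1)) *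
            (w8 * (X 5 l * w9 * (X 5 l)⁻¹))
          = X 5 l * v * (T * X 5 (-l)) * X 7 1 * X 7 (l * u1) * (w8 * (X 5 l * w9 * (X 5 l)⁻¹)) := by
            rw [hTX]; group
        _ = X 5 l * v * T * (X 5 (-l) * X 7 1) * X 7 (l * u1) * (w8 * (X 5 l * w9 * (X 5 l)⁻¹)) := by group
        _ = X 5 l * v * T * X 7 1 * (X 5 (-l) * (X 7 (l * u1) * w8) * (X 5 (-l))⁻¹) *
              (X 5 (-l) * X 5 l) * w9 * (X 5 l)⁻¹ := by rw [← h75]; group
        _ = _ := by rw [X_add, neg_add_cancel, X_zero]; group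
    rw [ev2] at step1
    set t : Fˣ := (σ ^ 2)⁻¹ with ht
    set k : F := ((t : F) - 1) / L with hk
    have hm : upper k * lower L = lower (L / (t : F)) * dia t * upper (k / (t : F)) := by
      have hkL : 1 + k * L = (t : F) := by rw [hk, div_mul_cancel₀ _ hL]; ring
      refine sl_ext ?_ ?_ ?_ ?_ <;>
        simp [mul_entry, upper_entries, lower_entries, dia_entries, Units.val_inv_eq_inv_val] <;>
        field_simp <;> first | linear_combination hkL | linear_combination -hkL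
    obtain ⟨z, hz, e63⟩ := conj6_3 k b
    set l1' : GG F := X 6 k * (X 5 L * l1 * (X 5 L)⁻¹) * (X 6 k)⁻¹ with hl1'
    have hl1'm : l1' ∈ rg F [3, 2, 1, 0] := by
      have h1 : X 5 L * l1 * (X 5 L)⁻¹ ∈ rg F [3, 2, 1, 0] :=
        rg_mono (by decide) (nconj (X_normalizes (L := [2, 1, 0]) (by decide +kernel) L) hl1)
      refine conj_rg (by decide) (fun r hr s => ?_)
        (show X 5 L * l1 * (X 5 L)⁻¹ ∈ rg F [2, 1, 0] from nconj (X_normalizes (by decide +kernel) L) hl1)
      have : r = 2 ∨ r = 1 ∨ r = 0 := by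
        simp only [List.mem_cons, List.not_mem_nil, or_false] at hr
        simp only [Fin.ext_iff]
        exact hr
      rw [X_inv]
      rcases this with rfl | rfl | rfl
      · rw [conj_formula 6 2 [] (by decide) (by decide) (by decide +kernel)]
        simpa using X_mem (L := [3, 2, 1, 0]) 2 (by simp) s
      · rw [conj_formula 6 1 [] (by decide) (by decide) (by decide +kernel)]
        simpa using X_mem (L := [3, 2, 1, 0]) 1 (by simp) s
      · rw [conj_formula 6 0 [(1, -1, 1, 1)] (by decide) (by decide) (by decide +kernel)]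
        simp only [List.map_cons, List.map_nil, List.prod_cons, List.prod_nil, mul_one, xn,
          dif_pos (show 1 < 12 by norm_num)]
        exact mul_mem (X_mem (L := [3, 2, 1, 0]) 0 (by simp) s) (X_mem _ (by simp) _)
    set P : F := k * b with hPdef
    set q : F := L / (t : F) with hq
    set z' : GG F := X 4 P * (z * l1' * X 5 q) * (X 4 P)⁻¹ with hz'
    have hz'm : z' ∈ rg F (nodeA F).Lm := by
      refine nconj ?_ (mul_mem (mul_mem ?_ ?_) (X_mem 5 (by simp [nodeA]) q))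
      · rw [show (4 : Fin 12) = opp 7 from rfl, ← phi_lower]; exact (nodeA F).normM _
      · exact rg_mono (by simp [nodeA]) hz
      · exact rg_mono (by simp [nodeA]) hl1'm
    set r6 : F := k / (t : F) * (((σ⁻¹ : Fˣ) : F)) with hr6
    set A' : F := 1 + l * u1 with hA'
    set u'' : GG F := (X 7 A')⁻¹ * X 6 r6 * X 7 A' * w' * (X 6 k)⁻¹ with hu''
    have hu''m : u'' ∈ rg F (nodeA F).Lp := by
      refine mul_mem (mul_mem (nconj' ?_ (X_mem 6 (by simp [nodeA]) _)) (rg_mono (by simp [nodeA]) hw'm))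
        (inv_mem (X_mem 6 (by simp [nodeA]) _))
      rw [← phi_upper]
      exact (nodeA F).normP _
    have hdec : (nodeA F).Dec g z' P σ 1 A' u'' := by
      refine ⟨hz'm, hu''m, ?_⟩
      have h6G := X_mem_group (K := F) 6 k
      have e := step1.conj h6G
      have hTt : T * tor 1 t = tor σ 1 := by rw [hT, tor_mul, mul_one, ht, mul_inv_cancel]
      have h65 : X 6 k * X 5 L = X 5 q * tor 1 t * X 6 (k / (t : F)) := by
        have := congrArg (phi (F := F) 6) hm
        rw [map_mul, map_mul, map_mul, phi_upper, phi_lower, phi_upper, phi_lower, phi_dia_six] at this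
        exact this
      have h6T : X 6 (k / (t : F)) * T = T * X 6 r6 := by
        rw [hT, tor_swap' σ (σ ^ 2) 6, hc6, hr6, mul_comm (k / (t : F))]
      convert e using 1
      rw [show (nodeA F).im = 4 from rfl, show (nodeA F).ip = 7 from rfl, hz', hu'', ← hTt]
      have h35 := X_comm (F := F) 5 3 (by decide) (by decide) (by decide +kernel) L b
      calc X 4 P * (z * l1' * X 5 q) * (X 4 P)⁻¹ * X 4 P * (T * tor 1 t) *
            (X 7 A' * ((X 7 A')⁻¹ * X 6 r6 * X 7 A' * w' * (X 6 k)⁻¹))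
          = (X 4 P * z) * l1' * X 5 q * (T * tor 1 t) * X 6 r6 * X 7 A' * w' * (X 6 k)⁻¹ := by group
        _ = (X 6 k * X 3 b * X 6 (-k)) * l1' * X 5 q * (tor 1 t * T) * X 6 r6 * X 7 A' * w' * (X 6 k)⁻¹ := by
            rw [e63, show T * tor 1 t = tor 1 t * T by rw [hT, tor_mul, tor_mul, mul_comm σ, mul_comm (σ ^ 2)]]
        _ = X 6 k * X 3 b * X 6 (-k) * l1' * X 5 q * tor 1 t * (T * X 6 r6) * X 7 A' * w' * (X 6 k)⁻¹ := by group
        _ = X 6 k * X 3 b * X 6 (-k) * l1' * (X 5 q * tor 1 t * X 6 (k / (t : F))) * T * X 7 A' * w' *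
              (X 6 k)⁻¹ := by rw [← h6T]; group
        _ = X 6 k * X 3 b * X 6 (-k) * l1' * (X 6 k * X 5 L) * T * X 7 A' * w' * (X 6 k)⁻¹ := by rw [h65]
        _ = X 6 k * (X 3 b * X 5 L) * l1 * T * X 7 A' * w' * (X 6 k)⁻¹ := by rw [hl1', ← X_inv]; group
        _ = _ := by rw [← h35]; group
    have htr : ((mid P σ 1 A' : GL (Fin 2) F) : M2 F).trace = 0 := by
      by_contra hne
      exact hbad (good_trace π hdec (Or.inl rfl) hne)
    rw [trace_mid, hPdef, hk, ht] at htr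
    simp only [Units.val_one, Units.val_inv_eq_inv_val, Units.val_pow_eq_pow_val] at htr
    have hs := σ.ne_zero
    have hs1 : ((σ : F) ^ 2 + 1) ≠ 0 := by
      intro e
      apply hσ
      refine Units.ext (sq_inj ?_)
      rw [Units.val_one, one_pow]
      linear_combination e - (CharTwo.two_eq_zero : (2 : F) = 0)
    field_simp at htr
    have h2 : (2 : F) = 0 := CharTwo.two_eq_zero
    have : ((σ : F) ^ 2 + 1) * (b * A' - L) = 0 := by grind
    exact sub_eq_zero.1 ((mul_eq_zero.1 this).resolve_left hs1)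
  classical
  set l0' : F := -a / γ
  have h1 : 1 < (Finset.univ.erase l0').card := by
    rw [Finset.card_erase_of_mem (Finset.mem_univ _), Finset.card_univ]; omega
  obtain ⟨x, hx, y, hy, hxy⟩ := Finset.one_lt_card.1 h1
  have hne : ∀ z ∈ Finset.univ.erase l0', a + γ * z ≠ 0 := fun z hz e => by
    refine (Finset.mem_erase.1 hz).1 ?_
    rw [eq_div_iff hγ0]
    linear_combination e
  have ex := key x (hne x hx)
  have ey := key y (hne y hy)
  have hbu : b * u1 = γ := by
    have : (x - y) * (b * u1 - γ) = 0 := by linear_combination ex - ey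
    exact sub_eq_zero.1 ((mul_eq_zero.1 this).resolve_left (sub_ne_zero.2 hxy))
  refine ⟨by linear_combination -ex + x * hbu, fun e => hγ0 ?_⟩
  rw [← hbu, e, zero_mul]

theorem good_BS_ne_one (π : Par F) {σ : Fˣ} (hσ : σ ≠ 1) (h3 : 3 ≤ Fintype.card F) {g : GG F}
    (h : BS σ g) : Good π.x g := by
  obtain ⟨v, hv, u, hu, hg⟩ := h
  obtain ⟨ub, w, hw, rfl⟩ := rg_split (r := 6) (L := [8, 9, 10, 11]) (by decide +kernel) hu
  set T : GG F := tor σ (σ ^ 2) with hT
  by_cases hub : ub = 0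
  · subst hub
    rw [X_zero, one_mul] at hg
    by_contra hbad
    obtain ⟨v0, v1, v2, v3, v4, rfl⟩ := exists_coords hv
    have hc7 : chi σ (σ ^ 2) 7 = 1 := by
      show σ ^ (2 : ℤ) * (σ ^ 2) ^ (-1 : ℤ) = 1
      group
    have hk : ∀ k : F, v0 + k * v1 + k ^ 2 * v2 + k ^ 3 * v3 = v1 + k ^ 2 * v3 ∧ v1 + k ^ 2 * v3 ≠ 0 := by
      intro k
      refine core_two π hσ h3 (g := g) (u := X 7 k * w * (X 7 k)⁻¹) (shift7 k v0 v1 v2 v3 v4)
        (nconj (X_normalizes (by decide +kernel) k) hw) ?_ hbad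
      have h7G := X_mem_group (K := F) 7 k
      have e := hg.conj h7G
      have hTX : X 7 k * T = T * X 7 k := by
        rw [hT, tor_swap, hc7, Units.val_one, one_mul]
      have hXX : X 7 k * X 7 (1 : F) = X 7 1 * X 7 k := by rw [X_add, X_add, add_comm]
      convert e using 1
      calc X 7 k * (X 5 v0 * (X 3 v1 * (X 2 v2 * (X 1 v3 * X 0 v4)))) * (X 7 k)⁻¹ * T * X 7 1 *
            (X 7 k * w * (X 7 k)⁻¹)
          = X 7 k * (X 5 v0 * (X 3 v1 * (X 2 v2 * (X 1 v3 * X 0 v4)))) *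
              ((X 7 k)⁻¹ * (T * (X 7 1 * X 7 k))) * w * (X 7 k)⁻¹ := by group
        _ = X 7 k * (X 5 v0 * (X 3 v1 * (X 2 v2 * (X 1 v3 * X 0 v4)))) * ((X 7 k)⁻¹ * (X 7 k * T * X 7 1)) * w *
              (X 7 k)⁻¹ := by rw [← hXX, ← mul_assoc T, ← hTX]
        _ = _ := by group
    have := (cubic_zero (card_four h3) (a := v0 - v1) (b := v1) (c := v2 - v3) (d := v3)
      (fun k => by linear_combination (hk k).1)).2.1
    have h0 := (hk 0).2
    rw [this] at h0
    simp at h0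
  · set w1 : GG F := (X 6 ub)⁻¹ * X 7 1 * X 6 ub * w with hw1
    have hw1m : w1 ∈ rg F (nodeB F).Lp :=
      mul_mem (nconj' (X_normalizes (L := [7, 8, 9, 10, 11]) (by decide +kernel) ub) (X_mem 7 (by simp [nodeB]) 1))
        (rg_mono (by simp [nodeB]) hw)
    set t : Fˣ := (σ ^ 2)⁻¹ with ht
    set k : F := (1 - (t : F)) / ub with hk
    have hm : upper ub * lower (-k) = lower (-k / (t : F)) * dia t * upper (ub / (t : F)) := by
      have hku : 1 - ub * k = (t : F) := by rw [hk, mul_div_cancel₀ _ hub]; ring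
      refine sl_ext ?_ ?_ ?_ ?_ <;>
        simp [mul_entry, upper_entries, lower_entries, dia_entries, Units.val_inv_eq_inv_val] <;>
        field_simp <;> first | linear_combination hku | linear_combination -hku
    set p' : F := (chi σ (σ ^ 2) 5 : F) * (-k / (t : F))
    set v'' : GG F := X 5 k * v * X 5 p' with hv''
    set u'' : GG F := X 6 (ub / (t : F)) * (X 5 k * w1 * (X 5 k)⁻¹) with hu''
    have hv''m : v'' ∈ rg F (nodeA F).Lm :=
      mul_mem (mul_mem (X_mem 5 (by simp [nodeA]) k) hv) (X_mem 5 (by simp [nodeA]) p')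
    have hu''m : u'' ∈ rg F posL := by
      refine (nodeB F).memU (nconj ?_ hw1m) _
      rw [show (5 : Fin 12) = opp 6 from rfl, ← phi_lower]
      exact (nodeB F).normP _
    obtain ⟨r, u3, hu3, eu⟩ := (nodeA F).splitU hu''m
    have hdec : (nodeA F).Dec g v'' 0 σ 1 r u3 := by
      refine ⟨hv''m, hu3, ?_⟩
      rw [← eu, X_zero, mul_one]
      have h5G := X_mem_group (K := F) 5 k
      have e := hg.conj h5G
      have hTt : T * tor 1 t = tor σ 1 := by rw [hT, tor_mul, mul_one, ht, mul_inv_cancel]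
      have h65 : X 6 ub * X 5 (-k) = X 5 (-k / (t : F)) * tor 1 t * X 6 (ub / (t : F)) := by
        have := congrArg (phi (F := F) 6) hm
        rw [map_mul, map_mul, map_mul, phi_upper, phi_lower, phi_upper, phi_lower, phi_dia_six] at this
        exact this
      have hT5 : X 5 p' * T = T * X 5 (-k / (t : F)) := by rw [hT, tor_swap]
      convert e using 1
      rw [← hTt, hv'', hu'']
      calc X 5 k * v * X 5 p' * (T * tor 1 t) * (X 6 (ub / (t : F)) * (X 5 k * w1 * (X 5 k)⁻¹))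
          = X 5 k * v * (X 5 p' * T) * tor 1 t * X 6 (ub / (t : F)) * X 5 k * w1 * (X 5 k)⁻¹ := by group
        _ = X 5 k * v * T * (X 5 (-k / (t : F)) * tor 1 t * X 6 (ub / (t : F))) * X 5 k * w1 * (X 5 k)⁻¹ := by
            rw [hT5]; group
        _ = _ := by rw [← h65, ← X_inv, hw1]; group
    refine good_trace π hdec (Or.inl rfl) ?_
    rw [trace_mid, zero_mul, zero_mul, add_zero]
    exact add_inv_ne hσ

theorem good_Bmove (π : Par F) (h3 : 3 ≤ Fintype.card F) {g v u : GG F} {p r : F}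
    (h : (nodeB F).Dec g v p 1 1 r u) (hne : p ≠ 0 ∨ r ≠ 0) : Good π.x g := by
  obtain ⟨v', p', r', u', h'⟩ := (nodeB F).move h
    (by rcases hne with hp | hr
        · exact Or.inl hp
        · exact Or.inr (Or.inl hr)) (π.n ^ 2)
  have hr' := h'.toRep
  simp only [nodeB, mul_one, one_mul] at hr'
  rcases dichotomy π (σ := π.n) (Or.inr rfl) hr' with hgood | hbs
  · exact hgood
  · exact good_BS_ne_one π π.n_ne_one h3 hbs

theorem good_BS_one (π : Par F) (h3 : 3 ≤ Fintype.card F) {g : GG F} (h : BS 1 g) : Good π.x g := by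
  obtain ⟨v, hv, u, hu, hg⟩ := h
  rw [one_pow, tor_one, mul_one] at hg
  by_contra hbad
  obtain ⟨v0, v1, v2, v3, v4, rfl⟩ := exists_coords hv
  have step : ∀ {v u : GG F} {a b : F}, InC a b v → u ∈ rg F (nodeA F).Lp → Cj g (v * X 7 1 * u) →
      a = 0 ∧ u ∈ rg F [8, 9, 10, 11] := by
    intro v u a b hv hu hg
    obtain ⟨l, hl, rfl⟩ := hv
    obtain ⟨c, w, hw, rfl⟩ := rg_split (r := 6) (L := [8, 9, 10, 11]) (by decide +kernel) hu
    suffices ¬ (a ≠ 0 ∨ c ≠ 0) by
      simp only [not_or, not_not] at this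
      obtain ⟨rfl, rfl⟩ := this
      exact ⟨rfl, by rw [X_zero, one_mul]; exact hw⟩
    intro hne
    refine hbad (good_Bmove π h3 (v := X 3 b * (X 5 a * l * (X 5 a)⁻¹)) (p := a) (r := c)
      (u := (X 6 c)⁻¹ * X 7 1 * X 6 c * w) ⟨?_, ?_, ?_⟩ hne)
    · exact mul_mem (X_mem 3 (by simp [nodeB]) b)
        (rg_mono (by simp [nodeB]) (nconj (X_normalizes (by decide +kernel) a) hl))
    · exact mul_mem (nconj' (X_normalizes (L := [7, 8, 9, 10, 11]) (by decide +kernel) c) (X_mem 7 (by simp [nodeB]) 1))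
        (rg_mono (by simp [nodeB]) hw)
    · convert hg using 1
      rw [show (nodeB F).im = 5 from rfl, show (nodeB F).ip = 6 from rfl, tor_one,
        X_comm 5 3 (by decide) (by decide) (by decide +kernel) a b]
      group
  have hk : ∀ k : F, v0 + k * v1 + k ^ 2 * v2 + k ^ 3 * v3 = 0 := by
    intro k
    refine (step (u := X 7 k * u * (X 7 k)⁻¹) (shift7 k v0 v1 v2 v3 v4) (nconj ?_ hu) ?_).1
    · rw [← phi_upper]; exact (nodeA F).normP _
    · have h7G := X_mem_group (K := F) 7 k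
      have e := hg.conj h7G
      have hXX : X 7 k * X 7 (1 : F) = X 7 1 * X 7 k := by rw [X_add, X_add, add_comm]
      convert e using 1
      calc X 7 k * (X 5 v0 * (X 3 v1 * (X 2 v2 * (X 1 v3 * X 0 v4)))) * (X 7 k)⁻¹ * X 7 1 *
            (X 7 k * u * (X 7 k)⁻¹)
          = X 7 k * (X 5 v0 * (X 3 v1 * (X 2 v2 * (X 1 v3 * X 0 v4)))) * ((X 7 k)⁻¹ * (X 7 1 * X 7 k)) * u *
              (X 7 k)⁻¹ := by group
        _ = _ := by rw [← hXX]; group
  have hu8 := (step (v := X 7 0 * (X 5 v0 * (X 3 v1 * (X 2 v2 * (X 1 v3 * X 0 v4)))) * (X 7 0)⁻¹)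
    (shift7 0 v0 v1 v2 v3 v4) hu (by rw [X_zero, one_mul, inv_one, mul_one]; exact hg)).2
  obtain ⟨rfl, rfl, rfl, rfl⟩ := cubic_zero (card_four h3) hk
  simp only [X_zero, one_mul] at hg
  obtain ⟨u1, w1, hw1, rfl⟩ := rg_split (r := 8) (L := [9, 10, 11]) (by decide +kernel) hu8
  obtain ⟨u2, w2, hw2, rfl⟩ := rg_split (r := 9) (L := [10, 11]) (by decide +kernel) hw1
  obtain ⟨u3, w3, hw3, rfl⟩ := rg_split (r := 10) (L := [11]) (by decide +kernel) hw2
  obtain ⟨r, w4, hw4, rfl⟩ := rg_split (r := 11) (L := []) (by decide +kernel) hw3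
  have hw4' : w4 = 1 := by simpa [rootGen] using hw4
  subst hw4'
  rw [mul_one] at hg
  set n7 : GG F := phi 7 wElt with hn7
  have hg' : Cj g (X 0 v4 * X 4 1 * (X 9 u1 * (X 8 u2 * (X 6 u3 * X 11 r)))) := by
    have e := hg.conj (phi_mem 7 (wElt : SL(2, F)))
    have w0 := wconj (F := F) (i := 7) (Or.inr rfl) 0 0 (by decide +kernel) v4
    have w7 := wconj (F := F) (i := 7) (Or.inr rfl) 7 4 (by decide +kernel) (1 : F)
    have w8 := wconj (F := F) (i := 7) (Or.inr rfl) 8 9 (by decide +kernel) u1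
    have w9 := wconj (F := F) (i := 7) (Or.inr rfl) 9 8 (by decide +kernel) u2
    have w10 := wconj (F := F) (i := 7) (Or.inr rfl) 10 6 (by decide +kernel) u3
    have w11 := wconj (F := F) (i := 7) (Or.inr rfl) 11 11 (by decide +kernel) r
    rw [← w0, ← w7, ← w8, ← w9, ← w10, ← w11, ← hn7]
    rw [← hn7] at e
    convert e using 1
    group
  have hc : ∀ k : F, k ^ 2 * u1 + k * u2 + u3 = 0 := by
    intro k
    by_contra hne
    obtain ⟨w, hw, ew⟩ := shift4 k u1 u2 u3 r
    refine hbad (good_Bmove π h3 (v := X 0 v4 * X 4 1) (p := 0) (r := k ^ 2 * u1 + k * u2 + u3) (u := w)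
      ⟨mul_mem (X_mem 0 (by simp [nodeB]) _) (X_mem 4 (by simp [nodeB]) _), rg_mono (by simp [nodeB]) hw, ?_⟩
      (Or.inr hne))
    rw [show (nodeB F).ip = 6 from rfl, ← ew, X_zero, mul_one, tor_one, mul_one]
    have h4G := X_mem_group (K := F) 4 k
    have e := hg'.conj h4G
    have h40 : X 4 k * (X 0 v4 * X 4 1) = X 0 v4 * X 4 1 * X 4 k := by
      rw [← mul_assoc, X_comm 4 0 (by decide) (by decide) (by decide +kernel), mul_assoc, mul_assoc, X_add, X_add,
        add_comm]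
    convert e using 1
    calc X 0 v4 * X 4 1 * (X 4 k * (X 9 u1 * (X 8 u2 * (X 6 u3 * X 11 r))) * (X 4 k)⁻¹)
        = X 0 v4 * X 4 1 * X 4 k * (X 9 u1 * (X 8 u2 * (X 6 u3 * X 11 r))) * (X 4 k)⁻¹ := by group
      _ = _ := by rw [← h40]; group
  obtain ⟨rfl, rfl, rfl, -⟩ := cubic_zero (card_four h3) (a := u3) (b := u2) (c := u1) (d := 0)
    (fun k => by linear_combination hc k)
  simp only [X_zero, one_mul] at hg
  have e := hg.conj (phi_mem 6 (wElt : SL(2, F)))
  have w0 := wconj (F := F) (i := 6) (Or.inl rfl) 0 1 (by decide +kernel) v4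
  have w7 := wconj (F := F) (i := 6) (Or.inl rfl) 7 8 (by decide +kernel) (1 : F)
  have w11 := wconj (F := F) (i := 6) (Or.inl rfl) 11 10 (by decide +kernel) r
  refine hbad (π.good_scalar_one (v := X 1 v4) (u := X 8 1 * X 10 r) (M := 1) (X_mem 1 (by simp [nodeA]) _)
    (mul_mem (X_mem 8 (by simp [nodeA]) _) (X_mem 10 (by simp [nodeA]) _)) ?_ Units.val_one)
  rw [map_one, mul_one, ← w0, ← w7, ← w11]
  convert e using 1
  group

end Two

end Cfsg.Agent.Lib.ThompsonG2
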