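import Cfsg.Agent.Lib.ThompsonG2.Basic
import Cfsg.Agent.Lib.ThompsonG2.Split

/-!
Gauss decompositions up to conjugacy, and their moves along the two rank one Levi subgroups (helper65).
-/

set_option autoImplicit false
set_option maxHeartbeats 400000

namespace Cfsg.Agent.Lib.ThompsonG2

open Cfsg.Lie Cfsg.Agent.Lib.Chev Cfsg.Agent.Lib.Ree
open Cfsg.Agent.Lib.Chev.RankOneData (upper lower wElt sl_ext mul_entry upper_entries lower_entries wElt_entries)
open scoped Matrix MatrixGroups

variable {F : Type*} [Field F]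

/-- Conjugacy under the Chevalley group. -/
def Cj (g h : GG F) : Prop := ∃ a ∈ chevG2.group F, h = a * g * a⁻¹

/-- A product of two conjugates. -/
def Good (x g : GG F) : Prop :=
  ∃ a ∈ chevG2.group F, ∃ b ∈ chevG2.group F, g = a * x * a⁻¹ * (b * x * b⁻¹)

theorem Cj.refl (g : GG F) : Cj g g := ⟨1, one_mem _, by simp⟩

theorem Cj.symm {g h : GG F} (e : Cj g h) : Cj h g := by
  obtain ⟨a, ha, rfl⟩ := e
  exact ⟨a⁻¹, inv_mem ha, by group⟩

theorem Cj.trans {g h k : GG F} (e : Cj g h) (e' : Cj h k) : Cj g k := by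
  obtain ⟨a, ha, rfl⟩ := e
  obtain ⟨b, hb, rfl⟩ := e'
  exact ⟨b * a, mul_mem hb ha, by group⟩

theorem Cj.conj {g h : GG F} (e : Cj g h) {a : GG F} (ha : a ∈ chevG2.group F) : Cj g (a * h * a⁻¹) :=
  e.trans ⟨a, ha, rfl⟩

theorem Good.of_cj {x g h : GG F} (e : Cj g h) (hh : Good x h) : Good x g := by
  obtain ⟨c, hc, rfl⟩ := e.symm
  obtain ⟨a, ha, b, hb, rfl⟩ := hh
  exact ⟨c * a, mul_mem hc ha, c * b, mul_mem hc hb, by group⟩

/-- A rank one node with its complementary unipotent groups. -/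
structure Node (F : Type*) [Field F] where
  ip : Fin 12
  co : Fˣ → Fˣ × Fˣ
  Lp : List ℕ
  Lm : List ℕ
  dia_eq : ∀ t, phi ip (dia t) = tor (co t).1 (co t).2
  chkP : (nchk ip.val Lp && nchk (opp ip).val Lp) = true
  chkM : (nchk ip.val Lm && nchk (opp ip).val Lm) = true
  subP : (Lp.all fun r => posL.contains r) = true
  subM : (Lm.all fun r => negL.contains r) = true
  covP : (posL.all fun r => (ip.val :: Lp).contains r) = true
  covM : (negL.all fun r => ((opp ip).val :: Lm).contains r) = true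
  memP : posL.contains ip.val = true
  memM : negL.contains (opp ip).val = true

/-- The node of the short fundamental root. -/
def nodeA (F : Type*) [Field F] : Node F where
  ip := 7
  co t := (t, 1)
  Lp := [6, 8, 9, 10, 11]
  Lm := [5, 3, 2, 1, 0]
  dia_eq := phi_dia_seven
  chkP := by decide +kernel
  chkM := by decide +kernel
  subP := by decide
  subM := by decide
  covP := by decide
  covM := by decide
  memP := by decide
  memM := by decide

/-- The node of the long fundamental root. -/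
def nodeB (F : Type*) [Field F] : Node F where
  ip := 6
  co t := (1, t)
  Lp := [7, 8, 9, 10, 11]
  Lm := [4, 3, 2, 1, 0]
  dia_eq := phi_dia_six
  chkP := by decide +kernel
  chkM := by decide +kernel
  subP := by decide
  subM := by decide
  covP := by decide
  covM := by decide
  memP := by decide
  memM := by decide

namespace Node

variable (N : Node F)

/-- The negative root of the node. -/
def im : Fin 12 := opp N.ip

theorem normP (m : SL(2, F)) : phi N.ip m ∈ Subgroup.normalizer (rg F N.Lp : Set (GG F)) := phi_normalizes N.chkP m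

theorem normM (m : SL(2, F)) : phi N.ip m ∈ Subgroup.normalizer (rg F N.Lm : Set (GG F)) := phi_normalizes N.chkM m

theorem splitU {u : GG F} (hu : u ∈ rg F posL) : ∃ r, ∃ u' ∈ rg F N.Lp, u = X N.ip r * u' :=
  rg_split (Bool.and_eq_true _ _ ▸ N.chkP).1 (rg_mono N.covP hu)

theorem splitV {v : GG F} (hv : v ∈ rg F negL) : ∃ p, ∃ v' ∈ rg F N.Lm, v = v' * X N.im p :=
  rg_split' (Bool.and_eq_true _ _ ▸ N.chkM).2 (rg_mono N.covM hv)

theorem memU {u : GG F} (hu : u ∈ rg F N.Lp) (r : F) : X N.ip r * u ∈ rg F posL :=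
  mul_mem (X_mem N.ip (List.contains_iff_mem.1 N.memP) r) (rg_mono N.subP hu)

theorem memV {v : GG F} (hv : v ∈ rg F N.Lm) (p : F) : v * X N.im p ∈ rg F negL :=
  mul_mem (rg_mono N.subM hv) (X_mem _ (List.contains_iff_mem.1 N.memM) p)

theorem blt_of {L L' : List ℕ} (h : (L.all fun r => L'.contains r) = true)
    (h' : (L'.all fun r => Nat.blt r 12) = true) : (L.all fun r => Nat.blt r 12) = true := by
  simp only [List.all_eq_true, List.contains_iff_mem] at h h' ⊢
  exact fun r hr => h' r (h r hr)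

theorem torM (a b : Fˣ) : tor a b ∈ Subgroup.normalizer (rg F N.Lm : Set (GG F)) :=
  tor_normalizes (blt_of N.subM (by decide)) a b

theorem torP (a b : Fˣ) : tor a b ∈ Subgroup.normalizer (rg F N.Lp : Set (GG F)) :=
  tor_normalizes (blt_of N.subP (by decide)) a b

end Node

/-- Gauss decomposition up to conjugacy. -/
def Rep (g v : GG F) (s e : Fˣ) (u : GG F) : Prop :=
  v ∈ rg F negL ∧ u ∈ rg F posL ∧ Cj g (v * tor s e * u)

/-- A decomposition adapted to a node. -/
def Node.Dec (N : Node F) (g v : GG F) (p : F) (s e : Fˣ) (r : F) (u : GG F) : Prop :=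
  v ∈ rg F N.Lm ∧ u ∈ rg F N.Lp ∧ Cj g (v * X N.im p * tor s e * (X N.ip r * u))

namespace Node

variable (N : Node F)

theorem Dec.toRep {N : Node F} {g v : GG F} {p : F} {s e : Fˣ} {r : F} {u : GG F} (h : N.Dec g v p s e r u) :
    Rep g (v * X N.im p) s e (X N.ip r * u) := ⟨N.memV h.1 p, N.memU h.2.1 r, h.2.2⟩

theorem exists_dec {g v : GG F} {s e : Fˣ} {u : GG F} (h : Rep g v s e u) :
    ∃ v' p r u', N.Dec g v' p s e r u' := by
  obtain ⟨p, v', hv', rfl⟩ := N.splitV h.1
  obtain ⟨r, u', hu', rfl⟩ := N.splitU h.2.1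
  exact ⟨v', p, r, u', hv', hu', h.2.2⟩

/-- The middle is not central in the Levi subgroup. -/
def Active (p : F) (s e : Fˣ) (r : F) : Prop := p ≠ 0 ∨ r ≠ 0 ∨ chi s e N.ip ≠ 1

theorem move {g v : GG F} {p : F} {s e : Fˣ} {r : F} {u : GG F} (h : N.Dec g v p s e r u)
    (hact : N.Active p s e r) (t : Fˣ) :
    ∃ v' p' r' u', N.Dec g v' p' (s * (N.co t).1) (e * (N.co t).2) r' u' := by
  obtain ⟨hv, hu, hg⟩ := h
  set al := chi s e N.ip with hal
  set M : M2 F := !![(al : F), (al : F) * r; p * (al : F), p * (al : F) * r + 1] with hM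
  have hns : NonScalar M := by
    by_cases hp : p = 0
    · by_cases hr : r = 0
      · refine Or.inr (Or.inr ?_)
        have ha : al ≠ 1 := (hact.resolve_left (not_not.2 hp)).resolve_left (not_not.2 hr)
        simpa [hM, hp, Units.val_eq_one] using ha
      · exact Or.inl (by simp [hM, hr])
    · exact Or.inr (Or.inl (by simp [hM, hp]))
  obtain ⟨k, hk⟩ := exists_conj_entry hns ((al : F) * (t : F))
  set k' : SL(2, F) := k
  set m : SL(2, F) := k' * (lower p * upper ((al : F) * r)) * sc al k'⁻¹ with hm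
  have hm00 : m 0 0 = (t : F) := by
    have key : (al : F) * m 0 0 = (al : F) * (t : F) := by
      rw [← hk]
      have a00 : k⁻¹ 0 0 = k 1 1 := by
        show (k.1.adjugate) 0 0 = _
        simp [Matrix.adjugate_fin_two]
      have a10 : k⁻¹ 1 0 = -k 1 0 := by
        show (k.1.adjugate) 1 0 = _
        simp [Matrix.adjugate_fin_two]
      simp only [hm, mul_entry, sc_entries, lower_entries, upper_entries, hM]
      simp [Matrix.mul_apply, Fin.sum_univ_two, a00, a10, k', Matrix.adjugate_fin_two]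
      field_simp
    exact mul_left_cancel₀ al.ne_zero key
  set p' := m 1 0 / (t : F) with hp'
  set r' := m 0 1 / (t : F) with hr'
  have hmeq : m = lower p' * dia t * upper r' := by
    have hd := RankOneData.det_eq m
    rw [hm00] at hd
    refine sl_ext ?_ ?_ ?_ ?_ <;>
      simp only [mul_entry, lower_entries, upper_entries, dia_entries, hm00, hp', hr', Units.val_inv_eq_inv_val] <;>
      field_simp <;> first | linear_combination hd | ring
  have hK := phi_mem N.ip k'
  refine ⟨phi N.ip k' * v * (phi N.ip k')⁻¹, p', (((chi s e N.ip)⁻¹ : Fˣ) : F) * r',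
    phi N.ip k' * u * (phi N.ip k')⁻¹, nconj (N.normM k') hv, nconj (N.normP k') hu, ?_⟩
  have e1 : X N.im p * tor s e * X N.ip r = phi N.ip (lower p * upper ((al : F) * r)) * tor s e := by
    rw [map_mul, phi_lower, phi_upper, mul_assoc, tor_swap, ← hal, ← mul_assoc]; rfl
  have e2 : phi N.ip m * tor s e =
      X N.im p' * tor (s * (N.co t).1) (e * (N.co t).2) * X N.ip ((((chi s e N.ip)⁻¹ : Fˣ) : F) * r') := by
    rw [hmeq, map_mul, map_mul, phi_lower, phi_upper, N.dia_eq, mul_assoc _ (X N.ip r') (tor s e),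
      tor_swap' s e N.ip, mul_comm s, mul_comm e, ← tor_mul]
    simp only [mul_assoc, Node.im]
  have e3 : phi N.ip k' * (phi N.ip (lower p * upper ((al : F) * r)) * tor s e) * (phi N.ip k')⁻¹ =
      phi N.ip m * tor s e := by
    rw [hm, map_mul, map_mul, ← map_inv, hal, ← tor_conj_phi]
    simp only [map_mul]
    group
  have e4 := hg.conj hK
  convert e4 using 1
  calc phi N.ip k' * v * (phi N.ip k')⁻¹ * X N.im p' * tor (s * (N.co t).1) (e * (N.co t).2) *
        (X N.ip ((((chi s e N.ip)⁻¹ : Fˣ) : F) * r') * (phi N.ip k' * u * (phi N.ip k')⁻¹))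
      = phi N.ip k' * v * (phi N.ip k')⁻¹ * (phi N.ip m * tor s e) * (phi N.ip k' * u * (phi N.ip k')⁻¹) := by
        rw [e2]; simp only [mul_assoc]
    _ = phi N.ip k' * (v * (X N.im p * tor s e * X N.ip r) * u) * (phi N.ip k')⁻¹ := by
        rw [← e3, e1]; group
    _ = _ := by simp only [mul_assoc]

/-- The big cell times its left factor is stable under the rank one subgroup. -/
theorem cell_step (m : SL(2, F)) {u w : GG F} (s e : Fˣ) {u2 : GG F} (hu : u ∈ rg F posL) (hw : w ∈ rg F negL)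
    (hu2 : u2 ∈ rg F posL) :
    ∃ a ∈ rg F posL, ∃ b ∈ rg F negL, ∃ s' e' : Fˣ, ∃ c ∈ rg F posL,
      phi N.ip m * (u * w * tor s e * u2) = a * b * tor s' e' * c := by
  obtain ⟨r, v, hv, rfl⟩ : ∃ r, ∃ v ∈ rg F N.Lp, u = v * X N.ip r :=
    rg_split' (Bool.and_eq_true _ _ ▸ N.chkP).1 (rg_mono N.covP hu)
  obtain ⟨q, w', hw', rfl⟩ : ∃ q, ∃ w' ∈ rg F N.Lm, w = X N.im q * w' :=
    rg_split (Bool.and_eq_true _ _ ▸ N.chkM).2 (rg_mono N.covM hw)
  set m2 := m * upper r * lower q with hm2
  obtain ⟨k, hk⟩ : ∃ k : F, (m2 * upper k) 1 1 ≠ 0 := by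
    by_cases h0 : m2 1 1 = 0
    · refine ⟨1, ?_⟩
      have hd := RankOneData.det_eq m2
      simp [mul_entry, upper_entries, h0]
      intro e
      rw [h0, e] at hd
      simp at hd
    · exact ⟨0, by simpa [mul_entry, upper_entries] using h0⟩
  set m3 := m2 * upper k with hm3
  set t : Fˣ := (Units.mk0 _ hk)⁻¹ with ht
  have hdec : m3 = upper (m3 0 1 / m3 1 1) * lower (m3 1 0 * m3 1 1) * dia t := by
    have hd := RankOneData.det_eq m3
    refine sl_ext ?_ ?_ ?_ ?_ <;>
      simp only [mul_entry, lower_entries, upper_entries, dia_entries, ht, Units.val_inv_eq_inv_val, inv_inv,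
        Units.val_mk0] <;> field_simp <;> first | linear_combination hd | ring
  set a := m3 0 1 / m3 1 1
  set b := m3 1 0 * m3 1 1
  set k'' : F := ((((chi s e N.ip)⁻¹ : Fˣ)) : F) * -k
  refine ⟨phi N.ip m * v * (phi N.ip m)⁻¹ * X N.ip a, ?_,
    X N.im b * (phi N.ip (dia t) * ((X N.ip (-k)) * w' * (X N.ip (-k))⁻¹) * (phi N.ip (dia t))⁻¹), ?_,
    (N.co t).1 * s, (N.co t).2 * e, X N.ip k'' * u2, ?_, ?_⟩
  · exact mul_mem (rg_mono N.subP (nconj (N.normP m) hv)) (X_mem _ (List.contains_iff_mem.1 N.memP) a)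
  · refine mul_mem (X_mem _ (List.contains_iff_mem.1 N.memM) b) (rg_mono N.subM (nconj (N.normM _) (nconj ?_ hw')))
    rw [← phi_upper]
    exact N.normM _
  · exact mul_mem (X_mem _ (List.contains_iff_mem.1 N.memP) _) hu2
  · have e0 : phi N.ip m * (v * X N.ip r * (X N.im q * w') * tor s e * u2) =
        phi N.ip m * v * (phi N.ip m)⁻¹ * phi N.ip m3 * (X N.ip (-k) * w' * (X N.ip (-k))⁻¹) *
          (X N.ip (-k) * tor s e) * u2 := by
      simp only [hm3, hm2, map_mul, phi_upper, phi_lower, Node.im, ← X_inv]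
      group
    rw [e0, hdec, map_mul, map_mul, phi_upper, phi_lower, tor_swap', ← tor_mul, N.dia_eq]
    change _ * (X N.ip a * X N.im b * _) * _ * _ * _ = _
    simp only [k'', mul_neg, mul_comm k, neg_mul, Units.val_inv_eq_inv_val]
    group

end Node

theorem closure_phi_eq :
    chevG2.group F ≤ Subgroup.closure (Set.range (phi (F := F) 7) ∪ Set.range (phi (F := F) 6)) := by
  set H := Subgroup.closure (Set.range (phi (F := F) 7) ∪ Set.range (phi (F := F) 6)) with hH
  have hmem : ∀ j < chevG2.rank, ∃ i : Fin 12, (i = 6 ∨ i = 7) ∧ (if i = 7 then 0 else 1) = j ∧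
      chevG2.simple j = i.val ∧ ∀ m, phi (F := F) i m ∈ H := by
    intro j hj
    have hj2 : j < 2 := hj
    interval_cases j
    · exact ⟨7, Or.inr rfl, rfl, rfl, fun m => Subgroup.subset_closure (Or.inl ⟨m, rfl⟩)⟩
    · exact ⟨6, Or.inl rfl, rfl, rfl, fun m => Subgroup.subset_closure (Or.inr ⟨m, rfl⟩)⟩
  have key : ∀ r < chevG2.nroots, ∀ (hr : r < 12) (t : F), X ⟨r, hr⟩ t ∈ H := by
    refine rooted_G2.root_induction (P := fun r => ∀ (hr : r < 12) (t : F), X ⟨r, hr⟩ t ∈ H) (fun j hj hr t => ?_)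
      (fun j hj r hr ih hr' t => ?_)
    · obtain ⟨i, -, -, hs, hi⟩ := hmem j hj
      have : (⟨chevG2.simple j, hr⟩ : Fin 12) = i := Fin.ext hs
      rw [this, ← phi_upper]
      exact hi _
    · obtain ⟨i, hi67, hij, -, hi⟩ := hmem j hj
      have hr12 : r < 12 := hr
      have := mul_mem (mul_mem (hi wElt) (ih hr12 ((eta G2.cert j r : F) * t))) (inv_mem (hi wElt))
      rw [phi_wElt_conj hi67, hij] at this
      simp only [xn] at this
      rw [dif_pos hr', ← mul_assoc, etaF_sq, one_mul] at this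
      exact this
  rw [group_eq_rootGen, rootGen, Subgroup.closure_le]
  rintro x ⟨r, t, hr, e⟩
  have hr12 : r < 12 := hr
  have : x = X ⟨r, hr12⟩ t := Units.ext e
  exact this ▸ key r hr hr12 t

theorem exists_rep {g : GG F} (hg : g ∈ chevG2.group F) : ∃ v s e u, Rep g v s e u := by
  suffices ∀ u w : GG F, ∀ s e : Fˣ, ∀ u2 : GG F, u ∈ rg F posL → w ∈ rg F negL → u2 ∈ rg F posL →
      ∃ a ∈ rg F posL, ∃ b ∈ rg F negL, ∃ s' e' : Fˣ, ∃ c ∈ rg F posL,
        g * (u * w * tor s e * u2) = a * b * tor s' e' * c by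
    obtain ⟨a, ha, b, hb, s, e, c, hc, h⟩ := this 1 1 1 1 1 (one_mem _) (one_mem _) (one_mem _)
    simp only [tor_one, mul_one] at h
    have haG : a ∈ chevG2.group F := rg_le_group (by decide) ha
    refine ⟨b, s, e, c * a, hb, mul_mem hc ha, a⁻¹, inv_mem haG, ?_⟩
    rw [h]; group
  have hgens := closure_phi_eq hg
  clear hg
  induction hgens using Subgroup.closure_induction'' with
  | mem x hx =>
    intro u w s e u2 hu hw hu2
    rcases hx with ⟨m, rfl⟩ | ⟨m, rfl⟩
    · exact (nodeA F).cell_step m s e hu hw hu2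
    · exact (nodeB F).cell_step m s e hu hw hu2
  | inv_mem x hx =>
    intro u w s e u2 hu hw hu2
    rcases hx with ⟨m, rfl⟩ | ⟨m, rfl⟩
    · rw [← map_inv]; exact (nodeA F).cell_step m⁻¹ s e hu hw hu2
    · rw [← map_inv]; exact (nodeB F).cell_step m⁻¹ s e hu hw hu2
  | one =>
    intro u w s e u2 hu hw hu2
    exact ⟨u, hu, w, hw, s, e, u2, hu2, one_mul _⟩
  | mul x y _ _ hx hy =>
    intro u w s e u2 hu hw hu2
    obtain ⟨a, ha, b, hb, s', e', c, hc, h⟩ := hy u w s e u2 hu hw hu2
    obtain ⟨a', ha', b', hb', s'', e'', c', hc', h'⟩ := hx a b s' e' c ha hb hc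
    exact ⟨a', ha', b', hb', s'', e'', c', hc', by rw [mul_assoc, h, h']⟩

theorem exists_active {g : GG F} (hg : g ∈ chevG2.group F) (h1 : g ≠ 1) :
    (∃ v p s e r u, (nodeA F).Dec g v p s e r u ∧ (nodeA F).Active p s e r) ∨
      ∃ v p s e r u, (nodeB F).Dec g v p s e r u ∧ (nodeB F).Active p s e r := by
  by_contra hno
  simp only [not_or, not_exists, not_and] at hno
  obtain ⟨hA, hB⟩ := hno
  obtain ⟨v, s, e, u, hrep⟩ := exists_rep hg
  have inact : ∀ {v u : GG F} {s e : Fˣ}, Rep g v s e u →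
      (v ∈ rg F (nodeA F).Lm ∧ u ∈ rg F (nodeA F).Lp ∧ chi s e 7 = 1) ∧
      (v ∈ rg F (nodeB F).Lm ∧ u ∈ rg F (nodeB F).Lp ∧ chi s e 6 = 1) := by
    intro v u s e h
    refine ⟨?_, ?_⟩
    · obtain ⟨p, v', hv', ev⟩ := (nodeA F).splitV h.1
      obtain ⟨r, u', hu', eu⟩ := (nodeA F).splitU h.2.1
      have hd : (nodeA F).Dec g v' p s e r u' := ⟨hv', hu', by rw [← ev, ← eu]; exact h.2.2⟩
      have := hA v' p s e r u' hd
      simp only [Node.Active, not_or, not_not] at this
      obtain ⟨rfl, rfl, h3⟩ := this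
      rw [X_zero, mul_one] at ev
      rw [X_zero, one_mul] at eu
      subst ev eu
      exact ⟨hv', hu', h3⟩
    · obtain ⟨p, v', hv', ev⟩ := (nodeB F).splitV h.1
      obtain ⟨r, u', hu', eu⟩ := (nodeB F).splitU h.2.1
      have hd : (nodeB F).Dec g v' p s e r u' := ⟨hv', hu', by rw [← ev, ← eu]; exact h.2.2⟩
      have := hB v' p s e r u' hd
      simp only [Node.Active, not_or, not_not] at this
      obtain ⟨rfl, rfl, h3⟩ := this
      rw [X_zero, mul_one] at ev
      rw [X_zero, one_mul] at eu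
      subst ev eu
      exact ⟨hv', hu', h3⟩
  obtain ⟨⟨-, -, ha⟩, -, -, hb⟩ := inact hrep
  have hs2 : s ^ 2 = e := by
    have := ha
    simp [chi] at this
    rw [← div_eq_mul_inv, div_eq_one] at this
    exact_mod_cast this
  have hs : s = 1 := by
    have := hb
    simp [chi] at this
    rw [← hs2] at this
    have e4 : (s ^ 2) ^ 2 = s ^ 3 := by
      rw [inv_mul_eq_one] at this
      exact_mod_cast this.symm
    have e5 : s ^ 3 * s = s ^ 3 * 1 := by rw [mul_one, ← pow_succ]; conv_rhs => rw [← e4, ← pow_mul]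
    exact mul_left_cancel e5
  subst hs
  rw [one_pow] at hs2
  subst hs2
  have stable : ∀ x ∈ chevG2.group F, ∀ v u : GG F, Rep g v 1 1 u →
      x * v * x⁻¹ ∈ rg F negL ∧ x * u * x⁻¹ ∈ rg F posL := by
    intro x hx
    have hgens := closure_phi_eq hx
    clear hx
    induction hgens using Subgroup.closure_induction'' with
    | mem x hx =>
      intro v u h
      obtain ⟨⟨a1, a2, -⟩, b1, b2, -⟩ := inact h
      rcases hx with ⟨m, rfl⟩ | ⟨m, rfl⟩
      · exact ⟨rg_mono (nodeA F).subM (nconj ((nodeA F).normM m) a1),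
          rg_mono (nodeA F).subP (nconj ((nodeA F).normP m) a2)⟩
      · exact ⟨rg_mono (nodeB F).subM (nconj ((nodeB F).normM m) b1),
          rg_mono (nodeB F).subP (nconj ((nodeB F).normP m) b2)⟩
    | inv_mem x hx =>
      intro v u h
      obtain ⟨⟨a1, a2, -⟩, b1, b2, -⟩ := inact h
      rcases hx with ⟨m, rfl⟩ | ⟨m, rfl⟩
      · exact ⟨rg_mono (nodeA F).subM (nconj (inv_mem ((nodeA F).normM m)) a1),
          rg_mono (nodeA F).subP (nconj (inv_mem ((nodeA F).normP m)) a2)⟩
      · exact ⟨rg_mono (nodeB F).subM (nconj (inv_mem ((nodeB F).normM m)) b1),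
          rg_mono (nodeB F).subP (nconj (inv_mem ((nodeB F).normP m)) b2)⟩
    | one =>
      intro v u h
      simp only [one_mul, inv_one, mul_one]
      exact ⟨h.1, h.2.1⟩
    | mul x y hxm hym ihx ihy =>
      intro v u h
      obtain ⟨hv', hu'⟩ := ihy v u h
      have hyG : y ∈ chevG2.group F := by
        refine (Subgroup.closure_le _).2 ?_ hym
        rintro z (⟨m, rfl⟩ | ⟨m, rfl⟩) <;> exact phi_mem _ m
      have hrep' : Rep g (y * v * y⁻¹) 1 1 (y * u * y⁻¹) := by
        refine ⟨hv', hu', ?_⟩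
        have h22 := h.2.2.conj hyG
        simp only [tor_one, mul_one] at h22 ⊢
        convert h22 using 1
        group
      obtain ⟨a, b⟩ := ihx _ _ hrep'
      constructor
      · rw [show x * y * v * (x * y)⁻¹ = x * (y * v * y⁻¹) * x⁻¹ by group]; exact a
      · rw [show x * y * u * (x * y)⁻¹ = x * (y * u * y⁻¹) * x⁻¹ by group]; exact b
  have core : ∀ w : GG F, w ∈ chevG2.group F →
      (∀ x ∈ chevG2.group F, x * w * x⁻¹ ∈ chevG2.borelSubgroup F) → w = 1 := by
    intro w hwG hw
    have hm : (⟨w, hwG⟩ : ↥(chevG2.group F)) ∈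
        ((chevG2.borelSubgroup F).subgroupOf (chevG2.group F)).normalCore := fun b => by
      rw [Subgroup.mem_subgroupOf]
      exact hw b b.2
    rw [rooted_G2.normalCore_eq_bot, Subgroup.mem_bot] at hm
    exact congrArg Subtype.val hm
  have hposB : rg F posL ≤ chevG2.borelSubgroup F := by rw [← pos_eq]; exact le_sup_left
  have hu1 : u = 1 := core u (rg_le_group (by decide) hrep.2.1)
    (fun x hx => hposB (stable x hx v u hrep).2)
  obtain ⟨n, hn, en⟩ := rooted_G2.conj_posUnipotent_eq (F := F)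
  have hnG : n ∈ chevG2.group F := rooted_G2.monomial_le_group hn
  have hv1 : v = 1 := core v (rg_le_group (by decide) hrep.1) (fun x hx => by
    have := (stable (n * x) (mul_mem hnG hx) v u hrep).1
    rw [← neg_eq, ← en] at this
    obtain ⟨z, hz, ez⟩ := this
    have : z = x * v * x⁻¹ := by
      simp only [MulEquiv.coe_toMonoidHom, MulAut.conj_apply] at ez
      calc z = n⁻¹ * (n * z * n⁻¹) * n := by group
        _ = n⁻¹ * (n * x * v * (n * x)⁻¹) * n := by rw [ez]
        _ = _ := by group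
    exact this ▸ le_sup_left (α := Subgroup (GG F)) hz)
  obtain ⟨-, -, a, ha, e⟩ := hrep
  rw [hv1, hu1, tor_one, one_mul, one_mul] at e
  apply h1
  calc g = a⁻¹ * (a * g * a⁻¹) * a := by group
    _ = 1 := by rw [← e]; group

/-- Every nontrivial element has a decomposition with `e = 1`. -/
theorem exists_rep_one {g : GG F} (hg : g ∈ chevG2.group F) (h1 : g ≠ 1) : ∃ v s u, Rep g v s 1 u := by
  have fromB : ∀ v p s e r u, (nodeB F).Dec g v p s e r u → (nodeB F).Active p s e r →
      ∃ v s u, Rep g v s 1 u := by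
    intro v p s e r u hd ha
    obtain ⟨v', p', r', u', h'⟩ := (nodeB F).move hd ha e⁻¹
    have := h'.toRep
    simp only [nodeB, mul_inv_cancel] at this
    exact ⟨_, _, _, this⟩
  rcases exists_active hg h1 with ⟨v, p, s, e, r, u, hd, ha⟩ | ⟨v, p, s, e, r, u, hd, ha⟩
  · by_cases he : e = 1
    · subst he; exact ⟨_, _, _, hd.toRep⟩
    obtain ⟨s', hs'⟩ : ∃ s' : Fˣ, chi s' e 6 ≠ 1 := by
      by_cases h2 : e ^ 2 = 1
      · refine ⟨-1, ?_⟩
        have hm : e = -1 := by
          have h2' : (e : F) ^ 2 = 1 := by rw [← Units.val_pow_eq_pow_val, h2, Units.val_one]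
          rcases sq_eq_one_iff.1 h2' with h | h
          · exact absurd (Units.ext h) he
          · exact Units.ext (by rw [h, Units.val_neg, Units.val_one])
        intro hc
        apply he
        simp [chi, hm] at hc
        rw [hm]
        refine Units.ext ?_
        have := congrArg Units.val hc
        simp only [Units.val_pow_eq_pow_val, Units.val_neg, Units.val_one] at this ⊢
        rwa [Odd.neg_one_pow (by decide)] at this
      · exact ⟨1, by simpa [chi] using h2⟩
    obtain ⟨v', p', r', u', h'⟩ := (nodeA F).move hd ha (s⁻¹ * s')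
    have hr := h'.toRep
    simp only [nodeA, mul_inv_cancel_left, mul_one] at hr
    obtain ⟨v2, p2, r2, u2, h2⟩ := (nodeB F).exists_dec hr
    exact fromB _ _ _ _ _ _ h2 (Or.inr (Or.inr hs'))
  · exact fromB _ _ _ _ _ _ hd ha

end Cfsg.Agent.Lib.ThompsonG2
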