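import Cfsg.Agent.Lib.ThompsonG2.Gauss

/-!
The `GL₂` of the short node, the absorption of unipotent factors into regular Levi elements, and products of
two conjugates (helper65).
-/

set_option autoImplicit false
set_option maxHeartbeats 400000

namespace Cfsg.Agent.Lib.ThompsonG2

open Cfsg.Lie Cfsg.Agent.Lib.Chev Cfsg.Agent.Lib.Ree
open Cfsg.Agent.Lib.Chev.RankOneData (upper lower wElt sl_ext mul_entry upper_entries lower_entries wElt_entries)
open scoped Matrix MatrixGroups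

variable {F : Type*} [Field F]

/-- The determinant one part of an invertible matrix. -/
def slPart (g : GL (Fin 2) F) : SL(2, F) :=
  ⟨!![(g : M2 F) 0 0, (g : M2 F) 0 1;
      ((Matrix.GeneralLinearGroup.det g)⁻¹ : Fˣ) * (g : M2 F) 1 0,
      ((Matrix.GeneralLinearGroup.det g)⁻¹ : Fˣ) * (g : M2 F) 1 1], by
    have hd : ((Matrix.GeneralLinearGroup.det g : Fˣ) : F) = (g : M2 F).det := rfl
    have hne : (g : M2 F).det ≠ 0 := hd ▸ (Matrix.GeneralLinearGroup.det g).ne_zero
    rw [Matrix.det_fin_two_of, Units.val_inv_eq_inv_val, hd]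
    rw [Matrix.det_fin_two] at hne ⊢
    field_simp⟩

theorem slPart_entries (g : GL (Fin 2) F) :
    slPart g 0 0 = (g : M2 F) 0 0 ∧ slPart g 0 1 = (g : M2 F) 0 1 ∧
      slPart g 1 0 = ((Matrix.GeneralLinearGroup.det g)⁻¹ : Fˣ) * (g : M2 F) 1 0 ∧
      slPart g 1 1 = ((Matrix.GeneralLinearGroup.det g)⁻¹ : Fˣ) * (g : M2 F) 1 1 := ⟨rfl, rfl, rfl, rfl⟩

/-- The isomorphism of `GL₂` onto the Levi subgroup of the short node. -/
noncomputable def Phi : GL (Fin 2) F →* GG F :=
  MonoidHom.mk' (fun g => tor 1 (Matrix.GeneralLinearGroup.det g) * phi 7 (slPart g)) fun g k => by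
    set dg := Matrix.GeneralLinearGroup.det g
    set dk := Matrix.GeneralLinearGroup.det k
    have hk0 : ((k : M2 F).det / (k : M2 F).det) = 1 := div_self (Matrix.GeneralLinearGroup.det k).ne_zero
    have e : slPart (g * k) = sc dk (slPart g) * slPart k := by
      refine sl_ext ?_ ?_ ?_ ?_ <;>
        simp only [mul_entry, sc_entries, slPart_entries, Units.val_mul, Matrix.mul_apply, Fin.sum_univ_two,
          map_mul, mul_inv_rev, Units.val_inv_eq_inv_val, dk, dg] <;> field_simp <;>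
        simp [mul_div_assoc, hk0]
    have h7 : chi (1 : Fˣ) dk⁻¹ 7 = dk := by simp [chi]
    have e2 : phi 7 (sc dk (slPart g)) = (tor 1 dk)⁻¹ * phi 7 (slPart g) * tor 1 dk := by
      have := tor_conj_phi 1 dk⁻¹ 7 (slPart g)
      rw [h7] at this
      rw [← this, tor_inv, tor_inv, inv_one, inv_inv]
    rw [map_mul, e, map_mul, e2]
    show tor 1 (dg * dk) * _ = tor 1 dg * phi 7 (slPart g) * (tor 1 dk * phi 7 (slPart k))
    rw [show tor (1 : Fˣ) (dg * dk) = tor 1 dg * tor 1 dk by rw [tor_mul, one_mul]]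
    group

theorem Phi_apply (g : GL (Fin 2) F) :
    Phi g = tor 1 (Matrix.GeneralLinearGroup.det g) * phi 7 (slPart g) := rfl

theorem Phi_mem (g : GL (Fin 2) F) : Phi g ∈ chevG2.group F := mul_mem (tor_mem_group _ _) (phi_mem _ _)

theorem Phi_normP (g : GL (Fin 2) F) :
    Phi g ∈ Subgroup.normalizer (rg F (nodeA F).Lp : Set (GG F)) :=
  mul_mem ((nodeA F).torP _ _) ((nodeA F).normP _)

theorem Phi_normM (g : GL (Fin 2) F) :
    Phi g ∈ Subgroup.normalizer (rg F (nodeA F).Lm : Set (GG F)) :=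
  mul_mem ((nodeA F).torM _ _) ((nodeA F).normM _)

theorem Phi_sl (m : SL(2, F)) (g : GL (Fin 2) F) (h : (g : M2 F) = (m : M2 F)) : Phi g = phi 7 m := by
  have hd : Matrix.GeneralLinearGroup.det g = 1 := Units.ext (by
    show (g : M2 F).det = 1
    rw [h]; exact m.2)
  have e : slPart g = m := by
    refine sl_ext ?_ ?_ ?_ ?_ <;> simp [slPart_entries, hd, h]
  rw [Phi_apply, hd, e, tor_one, one_mul]

theorem Phi_diag (s e : Fˣ) (g : GL (Fin 2) F) (h : (g : M2 F) = !![(s : F), 0; 0, (e : F) / (s : F)]) :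
    Phi g = tor s e := by
  have hd : Matrix.GeneralLinearGroup.det g = e := Units.ext (by
    show (g : M2 F).det = _
    rw [h, Matrix.det_fin_two_of]; field_simp; ring)
  have e' : slPart g = dia s := by
    refine sl_ext ?_ ?_ ?_ ?_ <;> simp [slPart_entries, dia_entries, hd, h, Units.val_inv_eq_inv_val] <;> field_simp
  rw [Phi_apply, hd, e', phi_dia_seven, tor_mul, one_mul, mul_one]

/-- The scalar matrices. -/
def scal (a : Fˣ) : GL (Fin 2) F :=
  ⟨(a : F) • 1, ((a⁻¹ : Fˣ) : F) • 1, by simp [smul_smul], by simp [smul_smul]⟩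

theorem coe_scal (a : Fˣ) : ((scal a : GL (Fin 2) F) : M2 F) = (a : F) • 1 := rfl

theorem Phi_scal (a : Fˣ) : Phi (scal a) = tor a (a ^ 2) := by
  refine Phi_diag a (a ^ 2) _ ?_
  rw [coe_scal]
  ext i j
  fin_cases i <;> fin_cases j <;> simp [Units.val_pow_eq_pow_val] <;> field_simp

theorem scal_mul (a b : Fˣ) : scal a * scal b = scal (a * b) := by
  refine Units.ext ?_
  simp [coe_scal, smul_smul, mul_comm]

theorem scal_one : scal (1 : Fˣ) = 1 := Units.ext (by simp [coe_scal])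

theorem scal_comm (a : Fˣ) (g : GL (Fin 2) F) : Commute (scal a) g := by
  refine Units.ext ?_
  simp [coe_scal]

theorem scal_pow (a : Fˣ) : ∀ k : ℕ, scal a ^ k = scal (a ^ k)
  | 0 => by rw [pow_zero, pow_zero, scal_one]
  | k + 1 => by rw [pow_succ, scal_pow a k, scal_mul, pow_succ]

/-- The middle matrix of a decomposition. -/
noncomputable def mid (p : F) (s e : Fˣ) (r : F) : GL (Fin 2) F :=
  Matrix.GeneralLinearGroup.mkOfDetNeZero !![(s : F), (s : F) * r; p * (s : F), p * (s : F) * r + (e : F) / (s : F)]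
    (by rw [Matrix.det_fin_two_of]; field_simp; simp)

theorem coe_mid (p : F) (s e : Fˣ) (r : F) : ((mid p s e r : GL (Fin 2) F) : M2 F) =
    !![(s : F), (s : F) * r; p * (s : F), p * (s : F) * r + (e : F) / (s : F)] := rfl

theorem det_mid (p : F) (s e : Fˣ) (r : F) : ((mid p s e r : GL (Fin 2) F) : M2 F).det = (e : F) := by
  rw [coe_mid, Matrix.det_fin_two_of]; field_simp; ring

theorem trace_mid (p : F) (s e : Fˣ) (r : F) :
    ((mid p s e r : GL (Fin 2) F) : M2 F).trace = (s : F) + (e : F) / (s : F) + p * (s : F) * r := by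
  rw [coe_mid, Matrix.trace_fin_two_of]; ring

theorem Phi_mid (p : F) (s e : Fˣ) (r : F) : X 4 p * tor s e * X 7 r = Phi (mid p s e r) := by
  let gl : SL(2, F) → GL (Fin 2) F := fun m =>
    ⟨(m : M2 F), ((m⁻¹ : SL(2, F)) : M2 F), congrArg Subtype.val (mul_inv_cancel m),
      congrArg Subtype.val (inv_mul_cancel m)⟩
  let d : GL (Fin 2) F := Matrix.GeneralLinearGroup.mkOfDetNeZero !![(s : F), 0; 0, (e : F) / (s : F)]
    (by rw [Matrix.det_fin_two_of]; simp)
  have em : mid p s e r = gl (lower p) * d * gl (upper r) := by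
    refine Units.ext ?_
    show !![(s : F), (s : F) * r; p * (s : F), p * (s : F) * r + (e : F) / (s : F)] =
      !![(1 : F), 0; p, 1] * !![(s : F), 0; 0, (e : F) / (s : F)] * !![(1 : F), r; 0, 1]
    simp
  rw [em, map_mul, map_mul, Phi_sl (lower p) (gl (lower p)) rfl, Phi_sl (upper r) (gl (upper r)) rfl, Phi_diag s e d rfl, phi_lower, phi_upper]
  rfl

theorem Dec_mid {g v : GG F} {p : F} {s e : Fˣ} {r : F} {u : GG F} (h : (nodeA F).Dec g v p s e r u) :
    Cj g (v * Phi (mid p s e r) * u) := by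
  rw [← Phi_mid]
  have := h.2.2
  simp only [Node.im, nodeA] at this
  convert this using 1
  simp only [mul_assoc]
  rfl

theorem Phi_conj_X11 (g : GL (Fin 2) F) (t : F) :
    Phi g * X 11 t * (Phi g)⁻¹ = X 11 ((g : M2 F).det * t) := by
  have hc := phi_commute_X (F := F) (r := 7) (s := 11) (by decide +kernel) (slPart g) t
  rw [Phi_apply, mul_inv_rev]
  calc tor 1 (Matrix.GeneralLinearGroup.det g) * phi 7 (slPart g) * X 11 t *
        ((phi 7 (slPart g))⁻¹ * (tor 1 (Matrix.GeneralLinearGroup.det g))⁻¹)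
      = tor 1 (Matrix.GeneralLinearGroup.det g) * (phi 7 (slPart g) * X 11 t * (phi 7 (slPart g))⁻¹) *
          (tor 1 (Matrix.GeneralLinearGroup.det g))⁻¹ := by group
    _ = _ := by rw [hc, mul_inv_cancel_right, tor_conj_X, chi_eleven]; rfl

theorem Phi_conj_X0 (g : GL (Fin 2) F) (t : F) :
    Phi g * X 0 t * (Phi g)⁻¹ = X 0 ((g : M2 F).det⁻¹ * t) := by
  have hc := phi_commute_X (F := F) (r := 7) (s := 0) (by decide +kernel) (slPart g) t
  rw [Phi_apply, mul_inv_rev]
  calc tor 1 (Matrix.GeneralLinearGroup.det g) * phi 7 (slPart g) * X 0 t *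
        ((phi 7 (slPart g))⁻¹ * (tor 1 (Matrix.GeneralLinearGroup.det g))⁻¹)
      = tor 1 (Matrix.GeneralLinearGroup.det g) * (phi 7 (slPart g) * X 0 t * (phi 7 (slPart g))⁻¹) *
          (tor 1 (Matrix.GeneralLinearGroup.det g))⁻¹ := by group
    _ = _ := by
      rw [hc, mul_inv_cancel_right, tor_conj_X]
      congr 2
      simp [chi]

/-- Elements of the radical commuting with a torus element acting by nontrivial scalars. -/
theorem fixed_pos {a : Fˣ} (ha : a ≠ 1) {w : GG F} (hw : w ∈ rg F [6, 8, 9, 10, 11])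
    (hc : tor a (a ^ 2) * w * (tor a (a ^ 2))⁻¹ = w) : ∃ t, w = X 11 t := by
  obtain ⟨t6, w1, hw1, rfl⟩ := rg_split (r := 6) (L := [8, 9, 10, 11]) (by decide +kernel) hw
  obtain ⟨t8, w2, hw2, rfl⟩ := rg_split (r := 8) (L := [9, 10, 11]) (by decide +kernel) hw1
  obtain ⟨t9, w3, hw3, rfl⟩ := rg_split (r := 9) (L := [10, 11]) (by decide +kernel) hw2
  obtain ⟨t10, w4, hw4, rfl⟩ := rg_split (r := 10) (L := [11]) (by decide +kernel) hw3
  obtain ⟨t11, w5, hw5, rfl⟩ := rg_split (r := 11) (L := []) (by decide +kernel) hw4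
  have hw5' : w5 = 1 := by simpa [rootGen] using hw5
  subst hw5'
  rw [mul_one] at hc ⊢
  set z : GG F := tor a (a ^ 2) with hz
  have c6 : (chi a (a ^ 2) 6 : F) = (a : F) := by
    have : chi a (a ^ 2) 6 = a := by
      simp only [chi]; show a ^ (-3 : ℤ) * (a ^ 2) ^ (2 : ℤ) = a
      group
    rw [this]
  have c8 : (chi a (a ^ 2) 8 : F) = (a : F) := by
    have : chi a (a ^ 2) 8 = a := by
      simp only [chi]; show a ^ (-1 : ℤ) * (a ^ 2) ^ (1 : ℤ) = a
      group
    rw [this]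
  have c10 : (chi a (a ^ 2) 10 : F) = (a : F) := by
    have : chi a (a ^ 2) 10 = a := by
      simp only [chi]; show a ^ (3 : ℤ) * (a ^ 2) ^ (-1 : ℤ) = a
      group
    rw [this]
  have e : z * (X 6 t6 * (X 8 t8 * (X 9 t9 * (X 10 t10 * X 11 t11)))) * z⁻¹ =
      X 6 ((a : F) * t6) * (X 8 ((a : F) * t8) * (X 9 ((a : F) * t9) * (X 10 ((a : F) * t10) *
        X 11 ((a : F) ^ 2 * t11)))) := by
    rw [← c6, ← tor_conj_X, show (chi a (a ^ 2) 6 : F) = (a : F) from c6, ← c8, ← tor_conj_X,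
      show (chi a (a ^ 2) 8 : F) = (a : F) from c8]
    have e9 : X 9 ((a : F) * t9) = z * X 9 t9 * z⁻¹ := by rw [hz, tor_conj_X, chi_nine]
    have e10 : X 10 ((a : F) * t10) = z * X 10 t10 * z⁻¹ := by rw [hz, tor_conj_X, c10]
    have e11 : X 11 ((a : F) ^ 2 * t11) = z * X 11 t11 * z⁻¹ := by
      rw [hz, tor_conj_X, chi_eleven, Units.val_pow_eq_pow_val]
    rw [e9, e10, e11, ← hz]
    group
  rw [e] at hc
  have hm := congrArg (fun g : GG F => (g : Matrix chevG2.Idx chevG2.Idx F)) hc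
  simp only [Units.val_mul, coe_X] at hm
  let T : F → F → F → F → F → ℕ → F := fun a b c d e r =>
    if r = 6 then a else if r = 8 then b else if r = 9 then c else if r = 10 then d else e
  have key := rooted_G2.prod_injective (F := F) [6, 8, 9, 10, 11] (by decide)
    (by intro r hr; fin_cases hr <;> exact ⟨by decide, by decide⟩)
    (T ((a : F) * t6) ((a : F) * t8) ((a : F) * t9) ((a : F) * t10) ((a : F) ^ 2 * t11))
    (T t6 t8 t9 t10 t11) (by simpa [T, ChevalleyDatum.wordMat] using hm)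
  have h1 : ∀ x : F, (a : F) * x = x → x = 0 := fun x hx => by
    by_contra hne
    exact ha (Units.ext (mul_right_cancel₀ hne (hx.trans (one_mul x).symm)))
  obtain rfl : t6 = 0 := h1 _ (by simpa [T] using key 6 (by simp))
  obtain rfl : t8 = 0 := h1 _ (by simpa [T] using key 8 (by simp))
  obtain rfl : t9 = 0 := h1 _ (by simpa [T] using key 9 (by simp))
  obtain rfl : t10 = 0 := h1 _ (by simpa [T] using key 10 (by simp))
  exact ⟨t11, by simp [X_zero]⟩

theorem conj_rg {a : GG F} {L L' : List ℕ} (hL : ∀ r ∈ L, r < 12)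
    (h : ∀ r : Fin 12, r.val ∈ L → ∀ t : F, a * X r t * a⁻¹ ∈ rg F L') {w : GG F} (hw : w ∈ rg F L) :
    a * w * a⁻¹ ∈ rg F L' := by
  induction hw using Subgroup.closure_induction with
  | mem x hx =>
    obtain ⟨r, t, hr, e⟩ := hx
    have : x = X ⟨r, hL r hr⟩ t := Units.ext e
    exact this ▸ h ⟨r, hL r hr⟩ hr t
  | one => simp
  | mul x y _ _ hx hy =>
    rw [show a * (x * y) * a⁻¹ = (a * x * a⁻¹) * (a * y * a⁻¹) by group]
    exact mul_mem hx hy
  | inv x _ hx =>
    rw [show a * x⁻¹ * a⁻¹ = (a * x * a⁻¹)⁻¹ by group]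
    exact inv_mem hx

/-- The regular Levi elements: some power is a nontrivial scalar, and the determinant is not one. -/
def Regular (M : GL (Fin 2) F) : Prop :=
  (M : M2 F).det ≠ 1 ∧ ∃ (k : ℕ) (a : Fˣ), a ≠ 1 ∧ M ^ k = scal a

theorem eq_zero_of_scale {d t : F} (hd : d ≠ 1) (h : d * t = t) : t = 0 := by
  by_contra hne
  exact hd (mul_right_cancel₀ hne (h.trans (one_mul t).symm))

theorem Regular.fixed_P {M : GL (Fin 2) F} (hM : Regular M) {w : GG F} (hw : w ∈ rg F (nodeA F).Lp)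
    (hc : Commute (Phi M) w) : w = 1 := by
  obtain ⟨hd, k, a, ha, hk⟩ := hM
  have hz := hc.pow_left k
  rw [← map_pow, hk, Phi_scal] at hz
  obtain ⟨t, rfl⟩ := fixed_pos ha hw (by rw [hz.eq, mul_inv_cancel_right])
  have e := Phi_conj_X11 M t
  rw [hc.eq, mul_inv_cancel_right] at e
  rw [eq_zero_of_scale hd (X_injective _ e).symm, X_zero]

theorem Regular.fixed_M {M : GL (Fin 2) F} (hM : Regular M) {w : GG F} (hw : w ∈ rg F (nodeA F).Lm)
    (hc : Commute (Phi M) w) : w = 1 := by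
  obtain ⟨hd, k, a, ha, hk⟩ := hM
  have hz := hc.pow_left k
  rw [← map_pow, hk, Phi_scal] at hz
  set n : GG F := nProd checked_G2 F longWord with hn
  have hw' : n * w * n⁻¹ ∈ rg F [6, 8, 9, 10, 11] := by
    refine conj_rg (by simp [nodeA]) (fun r hr t => ?_) hw
    rw [hn, long_X]
    refine X_mem _ ?_ _
    have : r = 5 ∨ r = 3 ∨ r = 2 ∨ r = 1 ∨ r = 0 := by
      simp only [nodeA, List.mem_cons, List.not_mem_nil, or_false] at hr
      simp only [Fin.ext_iff]
      exact hr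
    rcases this with rfl | rfl | rfl | rfl | rfl <;> decide
  have e1 : n * tor a (a ^ 2) * n⁻¹ = tor a⁻¹ (a⁻¹ ^ 2) := by rw [hn, long_conj_tor, tor_inv, inv_pow]
  obtain ⟨t, ht⟩ := fixed_pos (a := a⁻¹) (by simpa using ha) hw' (by
    rw [← e1]
    calc n * tor a (a ^ 2) * n⁻¹ * (n * w * n⁻¹) * (n * tor a (a ^ 2) * n⁻¹)⁻¹
        = n * (tor a (a ^ 2) * w * (tor a (a ^ 2))⁻¹) * n⁻¹ := by group
      _ = _ := by rw [hz.eq, mul_inv_cancel_right])
  obtain ⟨ε, hε, hεX⟩ : ∃ ε : F, ε * ε = 1 ∧ ∀ s : F, n * X 0 s * n⁻¹ = X 11 (ε * s) := by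
    refine ⟨(weta G2.cert longWord (0 : Fin 12).val : F), ?_, fun s => ?_⟩
    · rcases weta_cases (C := G2.cert) longWord (0 : Fin 12).val with h | h <;> rw [h] <;> simp
    · rw [hn, long_X]; rfl
  have hw0 : w = X 0 (ε * t) := by
    have := hεX (ε * t)
    rw [← mul_assoc ε, hε, one_mul, ← ht] at this
    exact mul_left_cancel (mul_right_cancel this.symm)
  subst hw0
  have e := Phi_conj_X0 M (ε * t)
  rw [hc.eq, mul_inv_cancel_right] at e
  rw [eq_zero_of_scale (by simpa using hd) (X_injective _ e).symm, X_zero]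

variable [Fintype F]

theorem absorb {H : Subgroup (GG F)} {c : GG F} (hc : c ∈ Subgroup.normalizer (H : Set (GG F)))
    (hfix : ∀ w ∈ H, Commute c w → w = 1) {v : GG F} (hv : v ∈ H) : ∃ w ∈ H, v * c = w * c * w⁻¹ := by
  classical
  let f : H → H := fun w => ⟨w * (c * (w : GG F)⁻¹ * c⁻¹), mul_mem w.2 (nconj hc (inv_mem w.2))⟩
  have hinj : Function.Injective f := by
    intro a b e
    have e' : (a : GG F) * (c * (a : GG F)⁻¹ * c⁻¹) = b * (c * (b : GG F)⁻¹ * c⁻¹) := congrArg Subtype.val e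
    have h1 := hfix ((b : GG F)⁻¹ * a) (mul_mem (inv_mem b.2) a.2) (by
      show c * ((b : GG F)⁻¹ * a) = (b : GG F)⁻¹ * a * c
      calc c * ((b : GG F)⁻¹ * a) = (b : GG F)⁻¹ * (b * (c * (b : GG F)⁻¹ * c⁻¹)) * c * a := by group
        _ = (b : GG F)⁻¹ * (a * (c * (a : GG F)⁻¹ * c⁻¹)) * c * a := by rw [e']
        _ = _ := by group)
    exact (Subtype.ext (inv_mul_eq_one.1 h1)).symm
  haveI : Finite H := inferInstance
  obtain ⟨w, hw⟩ := (Finite.injective_iff_surjective.1 hinj) ⟨v, hv⟩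
  refine ⟨w, w.2, ?_⟩
  have e := congrArg Subtype.val hw
  simp only [f] at e
  rw [← e]
  group

/-- A matrix whose image is a conjugate of the chosen element. -/
def Cls (x : GG F) (M : GL (Fin 2) F) : Prop := Regular M ∧ Cj x (Phi M)

theorem good_of_split {x g v u : GG F} {M1 M2' : GL (Fin 2) F} (h1 : Cls x M1) (h2 : Cls x M2')
    (hv : v ∈ rg F (nodeA F).Lm) (hu : u ∈ rg F (nodeA F).Lp) (hg : Cj g (v * Phi (M1 * M2') * u)) :
    Good x g := by
  refine Good.of_cj hg ?_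
  obtain ⟨w, hw, e1⟩ := absorb (Phi_normM M1) (fun w hw hc => h1.1.fixed_M hw hc) hv
  obtain ⟨w', hw', e2⟩ := absorb (Phi_normP M2') (fun w hw hc => h2.1.fixed_P hw hc) (nconj (Phi_normP M2') hu)
  obtain ⟨a, ha, ea⟩ := h1.2
  obtain ⟨b, hb, eb⟩ := h2.2
  have hwG : w ∈ chevG2.group F := rg_le_group (by decide) (rg_mono (nodeA F).subM hw)
  have hw'G : w' ∈ chevG2.group F := rg_le_group (by decide) (rg_mono (nodeA F).subP hw')
  refine ⟨w * a, mul_mem hwG ha, w' * b, mul_mem hw'G hb, ?_⟩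
  rw [map_mul]
  calc v * (Phi M1 * Phi M2') * u = v * Phi M1 * (Phi M2' * u * (Phi M2')⁻¹ * Phi M2') := by group
    _ = w * Phi M1 * w⁻¹ * (w' * Phi M2' * w'⁻¹) := by rw [e1, e2]
    _ = _ := by rw [ea, eb]; group

/-- The parameters of the class: the characteristic polynomial of the Levi element. -/
structure Par (F : Type*) [Field F] where
  t : F
  n : Fˣ
  n_ne_one : n ≠ 1
  t_ne : t ≠ 0
  noRoot : ∀ r : F, r * r - t * r + (n : F) ≠ 0

namespace Par

variable (π : Par F)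

/-- The Levi element. -/
noncomputable def P : GL (Fin 2) F :=
  Matrix.GeneralLinearGroup.mkOfDetNeZero (comp π.t (π.n : F)) (by rw [comp_det]; exact π.n.ne_zero)

theorem coe_P : ((π.P : GL (Fin 2) F) : M2 F) = comp π.t (π.n : F) := rfl

/-- The class element. -/
noncomputable def x : GG F := Phi π.P

theorem x_mem : π.x ∈ chevG2.group F := Phi_mem _

theorem P_pow : π.P ^ (Fintype.card F + 1) = scal π.n := by
  refine Units.ext ?_
  rw [Units.val_pow_eq_pow_val, coe_P, comp_pow_card π.noRoot, coe_scal]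

theorem exists_conj {M : GL (Fin 2) F} (ht : (M : M2 F).trace = π.t) (hd : (M : M2 F).det = (π.n : F)) :
    ∃ k : GL (Fin 2) F, M = k * π.P * k⁻¹ :=
  conj_of_invariants (nonScalar_of_noRoot (by rw [ht, hd]; exact π.noRoot))
    (nonScalar_of_noRoot (by rw [coe_P, comp_trace, comp_det]; exact π.noRoot))
    (by rw [ht, coe_P, comp_trace]) (by rw [hd, coe_P, comp_det])

theorem pow_conj {M : GL (Fin 2) F} (ht : (M : M2 F).trace = π.t) (hd : (M : M2 F).det = (π.n : F)) :
    M ^ (Fintype.card F + 1) = scal π.n := by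
  obtain ⟨k, rfl⟩ := π.exists_conj ht hd
  rw [conj_pow, π.P_pow, (scal_comm π.n k).symm.eq, mul_inv_cancel_right]

theorem clsA {M : GL (Fin 2) F} (ht : (M : M2 F).trace = π.t) (hd : (M : M2 F).det = (π.n : F)) :
    Cls π.x M := by
  refine ⟨⟨?_, _, π.n, π.n_ne_one, π.pow_conj ht hd⟩, ?_⟩
  · rw [hd]; exact fun e => π.n_ne_one (Units.ext e)
  · obtain ⟨k, rfl⟩ := π.exists_conj ht hd
    exact ⟨Phi k, Phi_mem k, by rw [map_mul, map_mul, map_inv]; rfl⟩

theorem clsB {M : GL (Fin 2) F} (ht : (π.n : F) * (M : M2 F).trace = π.t)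
    (hd : (π.n : F) * (M : M2 F).det = 1) : Cls π.x M := by
  have hc : ((scal π.n * M : GL (Fin 2) F) : M2 F) = (π.n : F) • (M : M2 F) := by simp [coe_scal]
  have ht' : ((scal π.n * M : GL (Fin 2) F) : M2 F).trace = π.t := by rw [hc, Matrix.trace_smul, smul_eq_mul, ht]
  have hd' : ((scal π.n * M : GL (Fin 2) F) : M2 F).det = (π.n : F) := by
    rw [hc, Matrix.det_smul, Fintype.card_fin, sq, mul_assoc, hd, mul_one]
  have hA := π.clsA ht' hd'
  have eM : M = scal π.n⁻¹ * (scal π.n * M) := by rw [← mul_assoc, scal_mul, inv_mul_cancel, scal_one, one_mul]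
  refine ⟨⟨?_, Fintype.card F + 1, π.n⁻¹, inv_ne_one.2 π.n_ne_one, ?_⟩, ?_⟩
  · intro e
    rw [e, mul_one] at hd
    exact π.n_ne_one (Units.ext hd)
  · rw [eM, (scal_comm _ _).mul_pow, π.pow_conj ht' hd', scal_pow, scal_mul]
    congr 1
    have hq : π.n ^ Fintype.card F = π.n := Units.ext (by rw [Units.val_pow_eq_pow_val, FiniteField.pow_card])
    rw [inv_pow, pow_succ, hq, mul_inv_rev, inv_mul_cancel_right]
  · obtain ⟨a, ha, ea⟩ := hA.2
    set d := Matrix.GeneralLinearGroup.det M with hdd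
    have hdn : d⁻¹ = π.n := by
      refine Units.ext ?_
      rw [Units.val_inv_eq_inv_val]
      show ((M : M2 F).det)⁻¹ = _
      exact (eq_inv_of_mul_eq_one_left hd).symm
    set w : SL(2, F) := wElt with hw
    set w11 : GG F := phi 11 w with hw11
    have hcomm : w11 * phi 7 (slPart M) * w11⁻¹ = phi 7 (slPart M) := by
      refine sl2_ext ((MulAut.conj w11).toMonoidHom.comp (phi 7)) (phi 7) (fun t => ?_) (fun t => ?_) _
      · simp only [MonoidHom.comp_apply, MulEquiv.coe_toMonoidHom, MulAut.conj_apply, phi_upper, hw11]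
        rw [phi_commute_X (by decide +kernel) w t, mul_inv_cancel_right]
      · simp only [MonoidHom.comp_apply, MulEquiv.coe_toMonoidHom, MulAut.conj_apply, phi_lower, hw11]
        rw [phi_commute_X (by decide +kernel) w t, mul_inv_cancel_right]
    have htor : w11 * tor 1 d * w11⁻¹ = tor d⁻¹ d⁻¹ := by
      have h11 : chi (1 : Fˣ) d 11 = d := chi_eleven _ _
      have e1 : tor 1 d * w11⁻¹ = phi 11 (sc d w⁻¹) * tor 1 d := by
        have hcj := tor_conj_phi (1 : Fˣ) d 11 w⁻¹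
        rw [h11] at hcj
        rw [hw11, ← map_inv, ← hcj, inv_mul_cancel_right]
      have e2 : w * sc d w⁻¹ = dia d⁻¹ := by
        have a00 : w⁻¹ 0 0 = (0 : F) ∧ w⁻¹ 0 1 = (-1 : F) ∧ w⁻¹ 1 0 = (1 : F) ∧ w⁻¹ 1 1 = (0 : F) := by
          have : ((w⁻¹ : SL(2, F)) : M2 F) = !![(0 : F), -1; 1, 0] := by
            show (w.1).adjugate = _
            rw [Matrix.adjugate_fin_two]
            simp [hw, wElt]
          simp [this]
        refine sl_ext ?_ ?_ ?_ ?_ <;>
          simp only [mul_entry, sc_entries, dia_entries, a00] <;> simp [hw, wElt_entries]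
      rw [mul_assoc, e1, hw11, ← mul_assoc, ← map_mul, e2, phi_dia_eleven, tor_mul, mul_one, inv_pow, sq,
        mul_inv_rev, inv_mul_cancel_right]
    refine ⟨w11⁻¹ * a, mul_mem (inv_mem (phi_mem _ _)) ha, ?_⟩
    have e3 : w11 * Phi M * w11⁻¹ = Phi (scal π.n * M) := by
      rw [map_mul, Phi_scal, Phi_apply, ← hdd, ← mul_assoc (tor π.n (π.n ^ 2)), tor_mul, mul_one,
        show π.n ^ 2 * d = π.n by rw [← hdn, sq, inv_mul_cancel_right], ← hdn]
      calc w11 * (tor 1 d * phi 7 (slPart M)) * w11⁻¹ =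
            (w11 * tor 1 d * w11⁻¹) * (w11 * phi 7 (slPart M) * w11⁻¹) := by group
        _ = _ := by rw [htor, hcomm, hdn]
    calc Phi M = w11⁻¹ * (w11 * Phi M * w11⁻¹) * w11 := by group
      _ = _ := by rw [e3, ea]; group

/-- A decomposition whose middle matrix splits into the two classes. -/
theorem good_mid {g v u : GG F} {M : GL (Fin 2) F} (hv : v ∈ rg F (nodeA F).Lm) (hu : u ∈ rg F (nodeA F).Lp)
    (hg : Cj g (v * Phi M * u)) {A : M2 F} (hAt : A.trace = π.t) (hAd : A.det = (π.n : F))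
    (h : ((M : M2 F).det = (π.n : F) * (π.n : F) ∧ (A.adjugate * (M : M2 F)).trace = (π.n : F) * π.t) ∨
      ((M : M2 F).det = 1 ∧ (A.adjugate * (M : M2 F)).trace = π.t)) : Good π.x g := by
  let A' : GL (Fin 2) F := Matrix.GeneralLinearGroup.mkOfDetNeZero A (by rw [hAd]; exact π.n.ne_zero)
  have hB : ((A'⁻¹ * M : GL (Fin 2) F) : M2 F) = (π.n : F)⁻¹ • (A.adjugate * (M : M2 F)) := by
    rw [Units.val_mul, Matrix.coe_units_inv, show ((A' : GL (Fin 2) F) : M2 F) = A from rfl, Matrix.inv_def,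
      hAd, Ring.inverse_eq_inv', Matrix.smul_mul]
  have hBd : ((A'⁻¹ * M : GL (Fin 2) F) : M2 F).det = (π.n : F)⁻¹ * (M : M2 F).det := by
    rw [hB, Matrix.det_smul, Fintype.card_fin, Matrix.det_mul, Matrix.det_adjugate, hAd, Fintype.card_fin]
    field_simp
    simp [sq, mul_comm]
  refine good_of_split (M1 := A') (M2' := A'⁻¹ * M) (π.clsA hAt hAd) ?_ hv hu (by rwa [mul_inv_cancel_left])
  rcases h with ⟨h1, h2⟩ | ⟨h1, h2⟩
  · refine π.clsA ?_ ?_
    · rw [hB, Matrix.trace_smul, smul_eq_mul, h2, inv_mul_cancel_left₀ π.n.ne_zero]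
    · rw [hBd, h1, inv_mul_cancel_left₀ π.n.ne_zero]
  · refine π.clsB ?_ ?_
    · rw [hB, Matrix.trace_smul, smul_eq_mul, h2, mul_inv_cancel_left₀ π.n.ne_zero]
    · rw [hBd, h1, mul_one, mul_inv_cancel₀ π.n.ne_zero]

theorem adjP_trace : (comp π.t (π.n : F)).adjugate.trace = π.t := by
  simp [comp, Matrix.adjugate_fin_two, Matrix.trace_fin_two]

theorem good_scalar_one {g v u : GG F} {M : GL (Fin 2) F} (hv : v ∈ rg F (nodeA F).Lm)
    (hu : u ∈ rg F (nodeA F).Lp) (hg : Cj g (v * Phi M * u)) (hM : (M : M2 F) = 1) : Good π.x g :=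
  π.good_mid hv hu hg (comp_trace π.t (π.n : F)) (comp_det π.t (π.n : F))
    (Or.inr ⟨by rw [hM, Matrix.det_one], by rw [hM, mul_one, π.adjP_trace]⟩)

theorem good_scalar_n {g v u : GG F} {M : GL (Fin 2) F} (hv : v ∈ rg F (nodeA F).Lm)
    (hu : u ∈ rg F (nodeA F).Lp) (hg : Cj g (v * Phi M * u)) (hM : (M : M2 F) = (π.n : F) • 1) : Good π.x g :=
  π.good_mid hv hu hg (comp_trace π.t (π.n : F)) (comp_det π.t (π.n : F))
    (Or.inl ⟨by rw [hM, Matrix.det_smul, Fintype.card_fin, Matrix.det_one, mul_one, sq],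
      by rw [hM, Matrix.mul_smul, mul_one, Matrix.trace_smul, π.adjP_trace, smul_eq_mul]⟩)

theorem x_order (p : ℕ) [Fact p.Prime] [CharP F p] : ¬ p ∣ orderOf π.x := fun h =>
  comp_order π.noRoot p π.P π.coe_P (h.trans (orderOf_map_dvd Phi π.P))

end Par

end Cfsg.Agent.Lib.ThompsonG2
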