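import Cfsg.Agent.Lib.ThompsonG2.Even

/-!
Every nontrivial element of `G₂(q)`, `q ≥ 3`, is a product of two conjugates of a fixed semisimple element
(helper65).
-/

set_option autoImplicit false

namespace Cfsg.Agent.Lib.ThompsonG2

open Cfsg.Lie Cfsg.Agent.Lib.Chev Cfsg.Agent.Lib.Ree
open scoped Matrix MatrixGroups

variable {F : Type*} [Field F] [Fintype F]

theorem good_odd (π : Par F) (hn : π.n = -1) (hodd : Fintype.card F % 2 = 1) (h2 : (2 : F) ≠ 0) {g v u : GG F}
    {s : Fˣ} (h : Rep g v s 1 u) : Good π.x g := by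
  obtain ⟨v', p, r, u', hd⟩ := (nodeA F).exists_dec h
  set M := mid p s 1 r with hM
  have hdet : (M : M2 F).det = 1 := by rw [hM, det_mid, Units.val_one]
  have hn' : (π.n : F) = -1 := by rw [hn, Units.val_neg, Units.val_one]
  by_cases hns : NonScalar (M : M2 F)
  · by_cases hμ : (M : M2 F).trace = -2
    · obtain ⟨A, hAt, hAd, hAw⟩ := exists_factor hns (t := π.t) (n := (π.n : F)) (w := π.t)
        (exists_conic_odd hodd h2 (by
          rintro ⟨-, e⟩
          rw [hμ] at e
          have : (2 : F) * (2 * π.t) = 0 := by linear_combination -e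
          rcases mul_eq_zero.1 this with h' | h'
          · exact h2 h'
          · exact (mul_ne_zero h2 π.t_ne) h'))
      exact π.good_mid hd.1 hd.2.1 (Dec_mid hd) hAt hAd (Or.inr ⟨hdet, hAw⟩)
    · obtain ⟨A, hAt, hAd, hAw⟩ := exists_factor hns (t := π.t) (n := (π.n : F)) (w := (π.n : F) * π.t)
        (exists_conic_odd hodd h2 (by
          rintro ⟨-, e⟩
          apply hμ
          rw [hn'] at e
          exact mul_right_cancel₀ π.t_ne (by linear_combination e)))
      exact π.good_mid hd.1 hd.2.1 (Dec_mid hd) hAt hAd (Or.inl ⟨by rw [hdet, hn']; ring, hAw⟩)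
  · have hM1 := eq_scalar_of_not hns
    have hc : (M : M2 F) 0 0 * (M : M2 F) 0 0 = 1 := by
      rw [← hdet]
      conv_rhs => rw [hM1]
      rw [Matrix.det_smul, Fintype.card_fin, Matrix.det_one, mul_one, sq]
    rcases mul_self_eq_one_iff.1 hc with e | e
    · rw [e, one_smul] at hM1
      exact π.good_scalar_one hd.1 hd.2.1 (Dec_mid hd) hM1
    · rw [e, ← hn'] at hM1
      exact π.good_scalar_n hd.1 hd.2.1 (Dec_mid hd) hM1

theorem good_two [CharP F 2] (π : Par F) (h3 : 3 ≤ Fintype.card F) {g v u : GG F} {s : Fˣ} (h : Rep g v s 1 u) :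
    Good π.x g := by
  rcases dichotomy π (σ := 1) (Or.inl rfl) (v := v) (u := u) (s := s) (by rwa [one_pow]) with hg | hbs
  · exact hg
  · exact good_BS_one π h3 hbs

/-- A semisimple class whose square covers the nontrivial elements. -/
theorem exists_covering (p : ℕ) [Fact p.Prime] [hcp : CharP F p] (h3 : 3 ≤ Fintype.card F) :
    ∃ x : GG F, x ∈ chevG2.group F ∧ ¬ p ∣ orderOf x ∧ ∀ g ∈ chevG2.group F, g ≠ 1 → Good x g := by
  have hord : ∀ π : Par F, ¬ p ∣ orderOf π.x := fun π => @Par.x_order _ _ _ π p _ hcp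
  by_cases h2 : ringChar F = 2
  · haveI : CharP F 2 := h2 ▸ ringChar.charP F
    obtain ⟨n, hn0, hn1⟩ : ∃ n : F, n ≠ 0 ∧ n ≠ 1 := by
      classical
      have hne : ((Finset.univ.erase (0 : F)).erase 1).Nonempty := by
        rw [← Finset.card_pos, Finset.card_erase_of_mem (by simp), Finset.card_erase_of_mem (by simp),
          Finset.card_univ]
        omega
      obtain ⟨n, hn⟩ := hne
      simp only [Finset.mem_erase] at hn
      exact ⟨n, hn.2.1, hn.1⟩
    obtain ⟨t, ht⟩ := exists_noRoot hn0
    have ht0 : t ≠ 0 := by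
      rintro rfl
      obtain ⟨r, hr⟩ := FiniteField.isSquare_of_char_two h2 (-n)
      exact ht r (by linear_combination -hr)
    let π : Par F := ⟨t, Units.mk0 n hn0, fun e => hn1 (by simpa using congrArg Units.val e), ht0, by simpa using ht⟩
    refine ⟨π.x, π.x_mem, ?_, fun g hg hg1 => ?_⟩
    · exact hord π
    obtain ⟨v, s, u, hrep⟩ := exists_rep_one hg hg1
    exact good_two π h3 hrep
  · have hodd := FiniteField.odd_card_of_char_ne_two (F := F) h2
    have htwo : (2 : F) ≠ 0 := Ring.two_ne_zero h2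
    obtain ⟨t, ht⟩ := exists_noRoot (neg_ne_zero.2 one_ne_zero : (-1 : F) ≠ 0)
    have ht0 : t ≠ 0 := by
      rintro rfl
      exact ht 1 (by ring)
    let π : Par F := ⟨t, -1, fun e => by
      have := congrArg Units.val e
      simp only [Units.val_neg, Units.val_one] at this
      exact htwo (by linear_combination -this), ht0, by simpa using ht⟩
    refine ⟨π.x, π.x_mem, π.x_order p, fun g hg hg1 => ?_⟩
    obtain ⟨v, s, u, hrep⟩ := exists_rep_one hg hg1
    exact good_odd π rfl hodd htwo hrep

end Cfsg.Agent.Lib.ThompsonG2
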